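import Groth.Agent.NagataJac.Open
import Groth.Agent.J2Lib.Main
import Groth.Agent.CohenStruct.Structure
import Groth.Agent.AdicLim.Noetherian
import Groth.Agent.DepthLib.RegularNormal
import Groth.Agent.S9604
import Groth.Agent.S4571
import Groth.Agent.S5784
import Mathlib.RingTheory.Henselian

/-!
# Complete Noetherian local rings are J-2
-/

universe u

open IsLocalRing EGA4
open scoped Classical Polynomial TensorProduct

set_option linter.unusedSectionVars false

namespace Groth.Agent.NagataJac

/-- A finite domain over a complete Noetherian local ring is a complete local ring. -/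
theorem isLocalRing_complete_of_finite {R D : Type u} [CommRing R] [IsLocalRing R] [IsNoetherianRing R]
    [IsAdicComplete (maximalIdeal R) R] [CommRing D] [IsDomain D] [Algebra R D] [Module.Finite R D] :
    ∃ _ : IsLocalRing D, IsAdicComplete (maximalIdeal D) D := by
  set J := (maximalIdeal R).map (algebraMap R D) with hJ
  have hJc : IsAdicComplete J D :=
    (IsAdicComplete.map_algebraMap_iff ..).2 (AdicLim.isAdicComplete_of_finite D)
  have : Algebra.IsIntegral R D := Algebra.IsIntegral.of_finite R D
  have : IsNoetherianRing D := IsNoetherianRing.of_finite R D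
  have hjac : J ≤ (⊥ : Ideal D).jacobson := IsAdicComplete.le_jacobson_bot J
  have hJm : ∀ m : Ideal D, m.IsMaximal → J ≤ m := fun m hm => hjac.trans (sInf_le ⟨bot_le, hm⟩)
  have hmax : ∀ q : Ideal D, q.IsPrime → J ≤ q → q.IsMaximal := fun q hq hJq => by
    have := hq
    refine Ideal.isMaximal_of_isIntegral_of_isMaximal_comap (R := R) q ?_
    have heq : q.comap (algebraMap R D) = maximalIdeal R :=
      le_antisymm (le_maximalIdeal (Ideal.IsPrime.ne_top inferInstance)) (Ideal.map_le_iff_le_comap.mp hJq)
    rw [heq]
    exact maximalIdeal.isMaximal R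
  obtain ⟨m₁, hm₁⟩ := Ideal.exists_maximal D
  have hloc : IsLocalRing D := by
    refine IsLocalRing.of_unique_max_ideal ⟨m₁, hm₁, fun m₂ hm₂ => ?_⟩
    by_contra hne
    obtain ⟨x, hx₁, hx₂⟩ : ∃ x ∈ m₁, x ∉ m₂ := by
      by_contra h
      push Not at h
      exact hne (hm₁.eq_of_le hm₂.ne_top h).symm
    obtain ⟨n, y, hy⟩ : ∃ (n : ℕ) (y : D), x ^ n * (1 - x * y) ∈ J := by
      by_contra h
      push Not at h
      let S : Submonoid D :=
        { carrier := {s | ∃ (n : ℕ) (y : D), s = x ^ n * (1 - x * y)}
          mul_mem' := by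
            rintro _ _ ⟨n, y, rfl⟩ ⟨n', y', rfl⟩
            exact ⟨n + n', y + y' - x * y * y', by ring⟩
          one_mem' := ⟨0, 0, by simp⟩ }
      obtain ⟨q, hq, hJq, hdisj⟩ := Ideal.exists_le_prime_disjoint J S
        (Set.disjoint_right.2 fun s hs hsJ => by
          obtain ⟨n, y, rfl⟩ := hs
          exact h n y hsJ)
      have hxq : x ∉ q := fun hx => Set.disjoint_left.1 hdisj hx ⟨1, 0, by ring⟩
      obtain ⟨y, z, hz, hyz⟩ := (hmax q hq hJq).exists_inv hxq
      exact Set.disjoint_left.1 hdisj hz ⟨0, y, by rw [← hyz]; ring⟩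
    let e := (x * y) ^ n
    have he : e ^ 2 - e ∈ J := by
      obtain ⟨w, hw⟩ : (1 - x * y) ∣ (1 - (x * y) ^ n) := by
        have h := sub_dvd_pow_sub_pow (1 : D) (x * y) n
        rwa [one_pow] at h
      have : e ^ 2 - e = (x ^ n * (1 - x * y)) * (-(y ^ n * w)) := by
        have he' : e = x ^ n * y ^ n := mul_pow x y n
        calc e ^ 2 - e = -(e * (1 - (x * y) ^ n)) := by simp only [e]; ring
          _ = -(e * ((1 - x * y) * w)) := by rw [hw]
          _ = _ := by rw [he']; ring
      rw [this]
      exact J.mul_mem_right _ hy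
    have hunit : IsUnit (Ideal.Quotient.mk J (2 * e - 1)) := by
      refine IsUnit.of_mul_eq_one (Ideal.Quotient.mk J (2 * e - 1)) ?_
      rw [← map_mul, ← map_one (Ideal.Quotient.mk J), Ideal.Quotient.eq,
        show (2 * e - 1) * (2 * e - 1) - 1 = 4 * (e ^ 2 - e) by ring]
      exact J.mul_mem_left _ he
    obtain ⟨a, ha, hae⟩ := HenselianRing.is_henselian (R := D) (I := J)
      (Polynomial.X ^ 2 - Polynomial.X)
      ((Polynomial.monic_X_pow 2).sub_of_left (by simp [Polynomial.degree_X_pow, Polynomial.degree_X]))
      e (by simpa using he) (by simpa [one_add_one_eq_two, map_ofNat] using hunit)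
    have haa : a * (a - 1) = 0 := by
      have : a ^ 2 - a = 0 := by simpa [Polynomial.IsRoot] using ha
      rw [← this]; ring
    rcases mul_eq_zero.1 haa with h0 | h1
    · have : e ∈ m₂ := hJm m₂ hm₂ (by simpa [h0] using hae)
      have hxy : 1 - x * y ∈ m₂ :=
        (hm₂.isPrime.mem_or_mem (hJm m₂ hm₂ hy)).resolve_left fun h => hx₂ (hm₂.isPrime.mem_of_pow_mem n h)
      exact hm₂.ne_top ((Ideal.eq_top_iff_one _).2
        (by simpa using m₂.add_mem hxy (hm₂.isPrime.mem_of_pow_mem n this)))
    · have ha1 : a = 1 := sub_eq_zero.1 h1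
      have he1 : 1 - e ∈ m₁ := hJm m₁ hm₁ (by simpa [ha1] using hae)
      rcases Nat.eq_zero_or_pos n with hn | hn
      · subst hn
        have h' : 1 - x * y ∈ m₁ := hJm m₁ hm₁ (by simpa using hy)
        exact hm₁.ne_top ((Ideal.eq_top_iff_one _).2
          (by simpa using m₁.add_mem h' (m₁.mul_mem_right y hx₁)))
      · have hem : e ∈ m₁ := m₁.pow_mem_of_mem (m₁.mul_mem_right y hx₁) n hn
        exact hm₁.ne_top ((Ideal.eq_top_iff_one _).2 (by simpa using m₁.add_mem he1 hem))
  refine ⟨hloc, ?_⟩
  have hrad : maximalIdeal D ≤ J.radical := by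
    rw [Ideal.radical_eq_sInf]
    exact le_sInf fun q ⟨hJq, hq⟩ => (IsLocalRing.eq_maximalIdeal (hmax q hq hJq)).ge
  obtain ⟨n, hn⟩ := Ideal.exists_pow_le_of_le_radical_of_fg hrad (IsNoetherian.noetherian _)
  exact (S9604.result J (maximalIdeal D) 1 (n + 1) one_pos n.succ_pos
    (by rw [pow_one]; exact hJm _ (maximalIdeal.isMaximal D))
    ((Ideal.pow_le_pow_right n.le_succ).trans hn) D).mp hJc

/-- In characteristic zero, a finite extension of a regular normal domain is generically regular. -/
theorem exists_open_regular_of_finite_charZero (P : Type u) [CommRing P] [IsDomain P] [IsNoetherianRing P]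
    [IsIntegrallyClosed P] [IsRegularRing P] [CharZero P] (A' : Type u)
    [CommRing A'] [IsDomain A'] [Algebra P A'] [Module.Finite P A'] (hinj : Function.Injective (algebraMap P A')) :
    ∃ U : Set (PrimeSpectrum A'), IsOpen U ∧ U.Nonempty ∧ U ⊆ EGA4.regLocus A' := by
  let M := FractionRing A'
  have hMinj : Function.Injective (algebraMap P M) := by
    rw [IsScalarTower.algebraMap_eq P A' M]
    exact (IsFractionRing.injective A' M).comp hinj
  have : FaithfulSMul P M := (faithfulSMul_iff_algebraMap_injective P M).2 hMinj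
  obtain ⟨t, ht⟩ := Module.Finite.fg_top (R := P) (M := A')
  let X : Finset M := t.image (algebraMap A' M)
  have hbot : J2Lib.GenReg (Algebra.adjoin P (∅ : Set M)) := by
    refine J2Lib.genReg_of_ringEquiv ?_ (⟨1, one_ne_zero, fun q _ =>
      IsRegularRing.isRegularLocalRing_localization q.asIdeal⟩ : J2Lib.GenReg P)
    exact ((Algebra.botEquivOfInjective hMinj).symm.trans
      (Subalgebra.equivOfEq _ _ (Algebra.adjoin_empty P M).symm)).toRingEquiv
  have hgen : J2Lib.GenReg (Algebra.adjoin P ((∅ : Set M) ∪ X)) := by
    refine J2Lib.genReg_adjoin_finset Set.finite_empty hbot X fun x hx => ?_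
    obtain ⟨y, -, rfl⟩ := Finset.mem_image.1 hx
    have hy : IsIntegral P (algebraMap A' M y) :=
      (Algebra.IsIntegral.isIntegral (R := P) y).algebraMap
    refine ⟨1, (minpoly P (algebraMap A' M y)).map (algebraMap P _),
      (minpoly P (algebraMap A' M y)).map (algebraMap P M), one_ne_zero, ?_, ?_, ?_⟩
    · rw [Polynomial.map_map, map_one, one_mul]
      rfl
    · rw [Polynomial.eval_map, ← Polynomial.aeval_def, minpoly.aeval]
    · rw [Polynomial.derivative_map, Polynomial.eval_map, ← Polynomial.aeval_def]
      intro h0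
      have hd : (minpoly P (algebraMap A' M y)).natDegree ≠ 0 := (minpoly.natDegree_pos hy).ne'
      have hne : Polynomial.derivative (minpoly P (algebraMap A' M y)) ≠ 0 := fun h =>
        hd (Polynomial.natDegree_eq_zero_of_derivative_eq_zero h)
      have h1 := minpoly.IsIntegrallyClosed.degree_le_of_ne_zero (s := algebraMap A' M y) hne h0
      exact absurd (Polynomial.natDegree_le_natDegree h1) (not_le.2 (Polynomial.natDegree_derivative_lt hd))
  suffices e : Algebra.adjoin P ((∅ : Set M) ∪ X) ≃+* A' from
    (J2Lib.genReg_of_ringEquiv e hgen).exists_isOpen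
  refine ((Subalgebra.equivOfEq _ (IsScalarTower.toAlgHom P A' M).range ?_).trans
    (AlgEquiv.ofInjective (IsScalarTower.toAlgHom P A' M) (IsFractionRing.injective A' M)).symm).toRingEquiv
  have htop : Algebra.adjoin P (t : Set A') = ⊤ := by
    rw [← Algebra.toSubmodule_eq_top, eq_top_iff, ← ht]
    exact Submodule.span_le.2 Algebra.subset_adjoin
  rw [Set.empty_union, Finset.coe_image, ← IsScalarTower.coe_toAlgHom' P A' M, ← AlgHom.map_adjoin,
    htop, Algebra.map_top]

/-- The regular locus of a quotient of a power series ring over a field is open. -/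
theorem isOpen_regLocus_quotient_powerSeries {K : Type u} [Field K] {r : ℕ} (q : Ideal (MvPowerSeries (Fin r) K)) :
    IsOpen (regLocus (MvPowerSeries (Fin r) K ⧸ q)) := by
  let A := MvPowerSeries (Fin r) K
  let k := (⊥ : Subfield K)
  have : IsScalarTower k K A := IsScalarTower.of_algebraMap_eq (R := k) (S := K) (A := A) fun c => by
    simp [A, MvPowerSeries.algebraMap_apply]
  -- the differentials of the prime field vanish
  have hΩ : Subsingleton Ω[k⁄ℤ] := by
    have hD : ∀ c : k, KaehlerDifferential.D ℤ k c = 0 := by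
      let S : Subfield k :=
        { carrier := {c | KaehlerDifferential.D ℤ k c = 0}
          mul_mem' := fun {a b} ha hb => by
            simp only [Set.mem_ofPred_eq] at ha hb ⊢
            rw [Derivation.leibniz, ha, hb, smul_zero, smul_zero, add_zero]
          one_mem' := Derivation.map_one_eq_zero _
          add_mem' := fun {a b} ha hb => by
            simp only [Set.mem_ofPred_eq] at ha hb ⊢
            rw [map_add, ha, hb, add_zero]
          zero_mem' := map_zero _
          neg_mem' := fun {a} ha => by
            simp only [Set.mem_ofPred_eq] at ha ⊢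
            rw [map_neg, ha, neg_zero]
          inv_mem' := fun a ha => by
            simp only [Set.mem_ofPred_eq] at ha ⊢
            rw [Derivation.leibniz_inv, ha, smul_zero] }
      intro c
      obtain ⟨d, hd, hdc⟩ := (bot_le : (⊥ : Subfield K) ≤ S.map k.subtype) c.2
      rwa [show c = d from Subtype.ext hdc.symm]
    refine subsingleton_of_forall_eq 0 fun x => (Submodule.mem_bot k).mp ?_
    have hx : x ∈ (⊤ : Submodule k Ω[k⁄ℤ]) := trivial
    rw [← KaehlerDifferential.span_range_derivation] at hx
    exact (Submodule.span_le.mpr (by rintro _ ⟨c, rfl⟩; exact (Submodule.mem_bot k).mpr (hD c))) hx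
  have : Algebra.IsGeometricallyReduced k K :=
    have : Subsingleton (K ⊗[k] Ω[k⁄ℤ]) := inferInstance
    EGA41Lib.isGeometricallyReduced_iff_injective.mpr (Function.injective_of_subsingleton _)
  have : IsRegularLocalRing A := PP16Lib.isRegularLocalRing_mvPowerSeries r K
  have : IsAdicComplete (maximalIdeal A) A := ComplDeriv.isAdicComplete_powerSeries r K
  -- formal smoothness over `K`
  have hA : CAlgX.IsAdicFormallySmooth K A (maximalIdeal A) := by
    refine S2471.result.mpr ⟨inferInstance, ?_⟩
    let ε : A →+* K := MvPowerSeries.constantCoeff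
    let _ : Algebra A K := ε.toAlgebra
    have : IsScalarTower K A K := IsScalarTower.of_algebraMap_eq fun c => (MvPowerSeries.constantCoeff_C c).symm
    have hsurj : Function.Surjective (algebraMap A K) := fun c => ⟨MvPowerSeries.C c, MvPowerSeries.constantCoeff_C c⟩
    refine (ComplDeriv.kInj_iff hsurj).mpr (lTensor_injective_of_extend fun δ₀ => ?_)
    refine ⟨ComplDeriv.intDerivation (δ₀.toLinearMap.toAddMonoidHom.comp ε.toAddMonoidHom) fun x y => ?_, fun c => ?_⟩
    · show δ₀ (ε (x * y)) = x • δ₀ (ε y) + y • δ₀ (ε x)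
      rw [map_mul, Derivation.leibniz]
      rfl
    · show δ₀ (ε (MvPowerSeries.C c)) = δ₀ c
      rw [show ε (MvPowerSeries.C c) = c from MvPowerSeries.constantCoeff_C c]
  -- the prime field: perfect and finite over its `p`-th powers
  obtain ⟨p, hp⟩ := ExpChar.exists k
  have hk : p = 1 ∨ Module.Finite (frobenius k p).fieldRange k := by
    rcases eq_or_ne p 1 with h | h
    · exact Or.inl h
    · right
      have hpk : p.Prime := (expChar_is_prime_or_one k p).resolve_right h
      have : Fact p.Prime := ⟨hpk⟩
      have : CharP k p := by cases hp with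
        | zero => exact absurd rfl h
        | prime _ => infer_instance
      have hsurj : ∀ c : k, c ∈ (frobenius k p).fieldRange := by
        have : CharP K p := charP_of_injective_ringHom (f := k.subtype) Subtype.val_injective p
        let f : ZMod p →+* k := ZMod.castHom dvd_rfl k
        intro c
        obtain ⟨z, hz⟩ : ∃ z : ZMod p, (f z : K) = c := by
          obtain ⟨z, hz⟩ := (bot_le : (⊥ : Subfield K) ≤ (ZMod.castHom dvd_rfl K : ZMod p →+* K).fieldRange) c.2
          exact ⟨z, (RingHom.congr_fun (Subsingleton.elim (k.subtype.comp f) (ZMod.castHom dvd_rfl K)) z).trans hz⟩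
        refine ⟨f z, ?_⟩
        rw [frobenius_def, ← map_pow, ZMod.pow_card]
        exact Subtype.ext hz
      refine ⟨⟨{1}, eq_top_iff.mpr fun c _ => ?_⟩⟩
      rw [Finset.coe_singleton]
      exact Submodule.mem_span_singleton.mpr ⟨⟨c, hsurj c⟩, by rw [Subfield.smul_def, smul_eq_mul, mul_one]⟩
  have hopen := isOpen_setOf_formallySmooth (k := k) (A := A) p hk hA q
  have heq : regLocus (A ⧸ q) = {n : PrimeSpectrum (A ⧸ q) |
      CAlgX.IsAdicFormallySmooth k (Localization.AtPrime n.asIdeal) (maximalIdeal (Localization.AtPrime n.asIdeal))} := by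
    ext n
    have : IsNoetherianRing (Localization.AtPrime n.asIdeal) :=
      IsLocalization.isNoetherianRing n.asIdeal.primeCompl _ inferInstance
    refine ⟨fun h => S2471.result.mpr ⟨h, ?_⟩, fun h => ?_⟩
    swap
    · rw [Set.mem_ofPred_eq] at h
      exact (S2471.result.mp h).1
    have : Subsingleton (Localization.AtPrime n.asIdeal ⊗[k] Ω[k⁄ℤ]) := inferInstance
    exact Function.injective_of_subsingleton _
  exact heq ▸ hopen

/-- A complete Noetherian local domain has a nonempty open regular subset. -/
theorem exists_open_regular_of_complete (B : Type u) [CommRing B] [IsDomain B] [IsLocalRing B] [IsNoetherianRing B]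
    [IsAdicComplete (maximalIdeal B) B] :
    ∃ U : Set (PrimeSpectrum B), IsOpen U ∧ U.Nonempty ∧ U ⊆ EGA4.regLocus B := by
  rcases CharP.exists B with ⟨p, hp⟩
  rcases CharP.char_is_prime_or_zero B p with hpp | hp0
  · -- positive characteristic: a quotient of `K[[T]]`
    obtain ⟨Λ, _, _, _, φ, -, hφ, hΛ⟩ := CohenStruct.exists_coefficientRing B
    have hcast : ((p : ℕ) : B) = 0 := CharP.cast_eq_zero B p
    have hF : IsField Λ := by
      refine hΛ.resolve_right fun ⟨_, l, hl, _, hlB, hlm⟩ => ?_
      have h1 : l.Coprime p := (Nat.coprime_primes hl hpp).mpr fun h => hlB (h ▸ hcast)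
      obtain ⟨a, b, hab⟩ := Nat.isCoprime_iff_coprime.mpr h1
      have h2 : IsUnit (l : B) := by
        refine IsUnit.of_mul_eq_one (a : B) ?_
        have := congrArg (Int.cast : ℤ → B) hab
        push_cast at this
        rw [hcast, mul_zero, add_zero] at this
        rw [mul_comm]; exact this
      exact (mem_maximalIdeal _).mp hlm h2
    obtain ⟨n, a, ha⟩ :=
      Submodule.fg_iff_exists_fin_generating_family.mp (IsNoetherian.noetherian (maximalIdeal B))
    have ham : ∀ i, a i ∈ maximalIdeal B := fun i => ha ▸ Submodule.subset_span ⟨i, rfl⟩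
    let f := CohenStruct.evalPS (maximalIdeal B) φ a ham
    have hmap : (Ideal.span (Set.range MvPowerSeries.X) : Ideal (MvPowerSeries (Fin n) Λ)).map f = maximalIdeal B := by
      rw [CohenStruct.map_span_X]; exact ha
    have : IsHausdorff ((Ideal.span (Set.range MvPowerSeries.X) : Ideal (MvPowerSeries (Fin n) Λ)).map f) B := by
      rw [hmap]; infer_instance
    have hsurj : Function.Surjective f := by
      refine surjective_of_mk_map_comp_surjective f (I := Ideal.span (Set.range MvPowerSeries.X)) fun y => ?_
      obtain ⟨y, rfl⟩ := Ideal.Quotient.mk_surjective y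
      obtain ⟨c, hc⟩ := hφ (residue B y)
      refine ⟨MvPowerSeries.C c, ?_⟩
      rw [RingHom.comp_apply, CohenStruct.evalPS_C, Ideal.Quotient.mk_eq_mk_iff_sub_mem, hmap,
        ← residue_eq_zero_iff, map_sub, ← RingHom.comp_apply, hc, sub_self]
    let _ : Field Λ := hF.toField
    have hopen := isOpen_regLocus_quotient_powerSeries (K := Λ) (r := n) (RingHom.ker f)
    let e := RingHom.quotientKerEquivOfSurjective hsurj
    have : IsDomain (MvPowerSeries (Fin n) Λ ⧸ RingHom.ker f) := e.toMulEquiv.isDomain B
    obtain ⟨U, hU, hne, hsub⟩ := (J2Lib.genReg_of_ringEquiv e (J2Lib.genReg_of_isOpen hopen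
      ⟨⟨⊥, Ideal.isPrime_bot⟩, by
        show IsRegularLocalRing _
        have hfield : IsField (Localization.AtPrime (⊥ : Ideal (MvPowerSeries (Fin n) Λ ⧸ RingHom.ker f))) := by
          have : IsFractionRing (MvPowerSeries (Fin n) Λ ⧸ RingHom.ker f)
              (Localization.AtPrime (⊥ : Ideal (MvPowerSeries (Fin n) Λ ⧸ RingHom.ker f))) := by
            show IsLocalization _ _
            rw [← Ideal.primeCompl_bot]
            infer_instance
          exact (IsFractionRing.toField (MvPowerSeries (Fin n) Λ ⧸ RingHom.ker f)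
            (K := Localization.AtPrime (⊥ : Ideal (MvPowerSeries (Fin n) Λ ⧸ RingHom.ker f)))).toIsField
        let _ : Field (Localization.AtPrime (⊥ : Ideal (MvPowerSeries (Fin n) Λ ⧸ RingHom.ker f))) := hfield.toField
        exact inferInstance⟩ le_rfl)).exists_isOpen
    exact ⟨U, hU, hne, hsub⟩
  · -- characteristic zero: finite over a regular power series ring
    subst hp0
    have : CharZero B := CharP.charP_to_charZero B
    obtain ⟨Λ, _, n, f, hΛ, hinj, hfin, -⟩ := CohenStruct.exists_finite_injective B
    let P := MvPowerSeries (Fin n) Λ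
    have hΛreg : IsRegularRing Λ ∧ IsDomain Λ ∧ IsLocalRing Λ := by
      rcases hΛ with hF | hC
      · let _ : Field Λ := hF.toField
        exact ⟨inferInstance, inferInstance, inferInstance⟩
      · obtain ⟨_, _, -⟩ := hC
        have : IsRegularLocalRing Λ := inferInstance
        exact ⟨RegularSerre.isRegularRing_of_isRegularLocalRing Λ, inferInstance, inferInstance⟩
    obtain ⟨_, _, _⟩ := hΛreg
    have : IsRegularRing P := S5784.result Λ n
    have : IsDomain P := NoZeroDivisors.to_isDomain _
    have : IsRegularLocalRing P := by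
      have : IsRegularLocalRing (Localization.AtPrime (maximalIdeal P)) :=
        IsRegularRing.isRegularLocalRing_localization _
      exact IsRegularLocalRing.of_ringEquiv (IsLocalization.atUnits P (maximalIdeal P).primeCompl
        (S := Localization.AtPrime (maximalIdeal P)) fun x hx => by
          simpa [IsUnit.mem_submonoid_iff] using hx).symm.toRingEquiv
    have : IsIntegrallyClosed P := DepthLib.isIntegrallyClosed_of_isRegularLocalRing P
    have : CharZero P := f.charZero_iff hinj |>.mpr inferInstance
    let _ : Algebra P B := f.toAlgebra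
    have : Module.Finite P B := hfin
    exact exists_open_regular_of_finite_charZero P B hinj

/-- Complete Noetherian local rings are J-2. -/
theorem isJ2_of_complete (A : Type u) [CommRing A] [IsNoetherianRing A] [IsLocalRing A]
    [IsAdicComplete (maximalIdeal A) A] : EGA4.IsJ2 A := by
  refine J2Lib.isJ2_of_finite fun A' _ _ _ hA' => ?_
  have := hA'
  obtain ⟨_, _⟩ := isLocalRing_complete_of_finite (R := A) (D := A')
  have : IsNoetherianRing A' := IsNoetherianRing.of_finite A A'
  exact exists_open_regular_of_complete A'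

end Groth.Agent.NagataJac
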