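import Groth.Agent.NagataJac.Separating
import Groth.Agent.EGA41Lib.Cartier
import Groth.Agent.S2475
import Mathlib.RingTheory.Flat.Basic

/-!
# Admissible subfields and the imperfection module
-/

universe u

open TensorProduct KaehlerDifferential

namespace Groth.Agent.NagataJac

variable {K : Type u} [Field K] (L : Type u) [Field L] [Algebra K L]

/-- A family of maps with zero common kernel keeps this property after a field extension. -/
theorem iInf_ker_baseChange {ι : Type*} {Z : Type u} [AddCommGroup Z] [Module K Z] {Y : ι → Type u}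
    [∀ i, AddCommGroup (Y i)] [∀ i, Module K (Y i)] (f : ∀ i, Z →ₗ[K] Y i)
    (h : ⨅ i, LinearMap.ker (f i) = ⊥) : ⨅ i, LinearMap.ker ((f i).baseChange L) = ⊥ := by
  classical
  refine le_bot_iff.mp fun v hv => ?_
  rw [Submodule.mem_iInf] at hv
  let b := Module.Basis.ofVectorSpace K L
  let e := TensorProduct.equivFinsuppOfBasisLeft (N := Z) b
  have key : ∀ (i : ι) (w : L ⊗[K] Z) m,
      TensorProduct.equivFinsuppOfBasisLeft (N := Y i) b ((f i).baseChange L w) m = f i (e w m) := by
    intro i w m
    induction w with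
    | zero => simp
    | add x y hx hy => rw [map_add, map_add, map_add, Finsupp.add_apply, Finsupp.add_apply, map_add, hx, hy]
    | tmul l z =>
      rw [LinearMap.baseChange_tmul, TensorProduct.equivFinsuppOfBasisLeft_apply_tmul_apply,
        TensorProduct.equivFinsuppOfBasisLeft_apply_tmul_apply, map_smul]
  refine (Submodule.mem_bot L).mpr (e.map_eq_zero_iff.mp (Finsupp.ext fun m => ?_))
  refine (Submodule.mem_bot K).mp (h.le ((Submodule.mem_iInf _).mpr fun i => ?_))
  rw [LinearMap.mem_ker, ← key, LinearMap.mem_ker.mp (hv i), map_zero, Finsupp.zero_apply]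

variable (k₀ : Type u) [Field k₀] [Algebra k₀ K]

/-- `L ⊗ Ω_{K/k₀} → L ⊗ Ω_{K/F}`. -/
noncomputable abbrev relMap (F : IntermediateField k₀ K) : L ⊗[K] Ω[K⁄k₀] →ₗ[L] L ⊗[K] Ω[K⁄F] :=
  ((KaehlerDifferential.map k₀ F K K).restrictScalars K).baseChange L

/-- The span of the differentials of a subfield. -/
noncomputable def dSpan (F : IntermediateField k₀ K) : Submodule L (L ⊗[K] Ω[K⁄k₀]) :=
  Submodule.span L ((fun c : K => (1 : L) ⊗ₜ[K] D k₀ K c) '' (F : Set K))

theorem ker_map_eq_span (F : IntermediateField k₀ K) :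
    LinearMap.ker (KaehlerDifferential.map k₀ F K K) = Submodule.span K (D k₀ K '' (F : Set K)) := by
  refine le_antisymm (fun ω hω => ?_) (Submodule.span_le.mpr ?_)
  · obtain ⟨y, rfl⟩ := (exact_mapBaseChange_map k₀ F K ω).mp (LinearMap.mem_ker.mp hω)
    clear hω
    induction y with
    | zero => rw [map_zero]; exact Submodule.zero_mem _
    | add a b ha hb => rw [map_add]; exact Submodule.add_mem _ ha hb
    | tmul l η =>
      rw [mapBaseChange_tmul]
      refine Submodule.smul_mem _ _ ?_
      induction (KaehlerDifferential.span_range_derivation k₀ F).ge (Submodule.mem_top (x := η))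
        using Submodule.span_induction with
      | mem y hy =>
        obtain ⟨c, rfl⟩ := hy
        rw [map_D]
        exact Submodule.subset_span ⟨_, c.2, rfl⟩
      | zero => rw [map_zero]; exact Submodule.zero_mem _
      | add a b _ _ ha hb => rw [map_add]; exact Submodule.add_mem _ ha hb
      | smul c x _ hx =>
        rw [LinearMap.map_smul]
        exact (algebraMap_smul K c (KaehlerDifferential.map k₀ k₀ F K x)) ▸ Submodule.smul_mem _ _ hx
  · rintro _ ⟨c, hc, rfl⟩
    rw [SetLike.mem_coe, LinearMap.mem_ker, map_D]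
    exact Derivation.map_algebraMap (D F K) (⟨c, hc⟩ : F)

theorem ker_relMap (F : IntermediateField k₀ K) : LinearMap.ker (relMap L k₀ F) = dSpan L k₀ F := by
  refine le_antisymm (fun v hv => ?_) (Submodule.span_le.mpr ?_)
  · let f := (KaehlerDifferential.map k₀ F K K).restrictScalars K
    have hex : Function.Exact (LinearMap.ker f).subtype f := f.exact_subtype_ker_map
    have hsurj : Function.Surjective f := KaehlerDifferential.map_surjective k₀ F K
    obtain ⟨w, rfl⟩ := (lTensor_exact L hex hsurj v).mp (LinearMap.mem_ker.mp hv)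
    clear hv
    induction w with
    | zero => rw [map_zero]; exact Submodule.zero_mem _
    | add a b ha hb => rw [map_add]; exact Submodule.add_mem _ ha hb
    | tmul l n =>
      obtain ⟨n, hn⟩ := n
      rw [LinearMap.lTensor_tmul, Submodule.subtype_apply]
      have hn' : n ∈ Submodule.span K (D k₀ K '' (F : Set K)) := (ker_map_eq_span k₀ F).le hn
      show l ⊗ₜ[K] n ∈ _
      clear hn
      induction hn' using Submodule.span_induction generalizing l with
      | mem y hy =>
        obtain ⟨c, hc, rfl⟩ := hy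
        rw [show l ⊗ₜ[K] D k₀ K c = l • ((1 : L) ⊗ₜ[K] D k₀ K c) by rw [smul_tmul', smul_eq_mul, mul_one]]
        exact Submodule.smul_mem _ _ (Submodule.subset_span ⟨c, hc, rfl⟩)
      | zero => rw [tmul_zero]; exact Submodule.zero_mem _
      | add a b _ _ ha hb => rw [tmul_add]; exact Submodule.add_mem _ (ha l) (hb l)
      | smul c x _ hx => rw [← smul_tmul]; exact hx _
  · rintro _ ⟨c, hc, rfl⟩
    have h1 : KaehlerDifferential.map k₀ F K K (D k₀ K c) = 0 := by
      rw [← LinearMap.mem_ker, ker_map_eq_span]
      exact Submodule.subset_span ⟨c, hc, rfl⟩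
    rw [SetLike.mem_coe, LinearMap.mem_ker]
    show relMap L k₀ F ((1 : L) ⊗ₜ[K] D k₀ K c) = 0
    rw [LinearMap.baseChange_tmul, LinearMap.restrictScalars_apply, h1, tmul_zero]

variable {ι : Type u} [Preorder ι] [IsDirected ι (· ≤ ·)] [Nonempty ι] (k : ι → IntermediateField k₀ K)

omit [IsDirected ι (· ≤ ·)] [Nonempty ι] in
theorem ker_relMap_antitone (hk : Antitone k) : Antitone fun i => LinearMap.ker (relMap L k₀ (k i)) := fun i j h => by
  show LinearMap.ker (relMap L k₀ (k j)) ≤ LinearMap.ker (relMap L k₀ (k i))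
  rw [ker_relMap, ker_relMap]
  exact Submodule.span_mono (Set.image_mono (hk h))

theorem iInf_ker_relMap (p : ℕ) [Fact p.Prime] [CharP K p] (hk : Antitone k)
    (h : (⨅ i, k i ⊔ IntermediateField.adjoin k₀ (Set.range fun y : K => y ^ p)) =
      IntermediateField.adjoin k₀ (Set.range fun y : K => y ^ p)) :
    ⨅ i, LinearMap.ker (relMap L k₀ (k i)) = ⊥ := by
  refine iInf_ker_baseChange L _ (le_bot_iff.mp fun ω hω => ?_)
  rw [Submodule.mem_iInf] at hω
  exact (Submodule.mem_bot K).mpr ((S2475.result p k hk).mp h ω fun i => hω i)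

end Groth.Agent.NagataJac
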