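import Mathlib.RingTheory.Kaehler.Basic
import Mathlib.LinearAlgebra.TensorProduct.Basis
import Mathlib.LinearAlgebra.FreeModule.Finite.Basic
import Mathlib.LinearAlgebra.Dual.Lemmas
import Mathlib.LinearAlgebra.FiniteDimensional.Lemmas

/-!
# Directed families of subspaces with zero intersection
-/

universe u

open TensorProduct KaehlerDifferential

namespace Groth.Agent.NagataJac

variable {L : Type u} [Field L] {X : Type u} [AddCommGroup X] [Module L X] {Y : Type u} [AddCommGroup Y] [Module L Y]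
  {ι : Type*} [Preorder ι] [IsDirected ι (· ≤ ·)] [Nonempty ι]

theorem exists_inf_eq_bot (V : Submodule L X) [Module.Finite L V] (W : ι → Submodule L X) (hW : Antitone W)
    (h : ⨅ i, W i = ⊥) : ∃ i, ∀ j, i ≤ j → V ⊓ W j = ⊥ := by
  classical
  have hfin : ∀ i, Module.Finite L ↥(V ⊓ W i) := fun i =>
    Module.Finite.of_injective (Submodule.inclusion inf_le_left) (Submodule.inclusion_injective _)
  have hex : ∃ n, ∃ i, Module.finrank L ↥(V ⊓ W i) = n := ⟨_, Classical.arbitrary ι, rfl⟩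
  obtain ⟨i, hi⟩ := Nat.find_spec hex
  suffices hbot : V ⊓ W i = ⊥ by
    exact ⟨i, fun j hj => le_bot_iff.mp ((inf_le_inf_left V (hW hj)).trans hbot.le)⟩
  refine le_bot_iff.mp ((le_iInf fun j => ?_).trans h.le)
  obtain ⟨k, hik, hjk⟩ := exists_ge_ge i j
  have hle : V ⊓ W k ≤ V ⊓ W i := inf_le_inf_left V (hW hik)
  have := hfin i
  have heq : V ⊓ W k = V ⊓ W i :=
    Submodule.eq_of_le_of_finrank_le hle (hi.trans_le (Nat.find_le ⟨k, rfl⟩))
  rw [← heq]
  exact inf_le_right.trans (hW hjk)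

theorem iInf_map_eq_bot (τ : X →ₗ[L] Y) [Module.Finite L (LinearMap.ker τ)] (W : ι → Submodule L X)
    (hW : Antitone W) (h : ⨅ i, W i = ⊥) : ⨅ i, (W i).map τ = ⊥ := by
  refine le_bot_iff.mp fun y hy => ?_
  rw [Submodule.mem_iInf] at hy
  obtain ⟨i, hi⟩ := exists_inf_eq_bot (LinearMap.ker τ) W hW h
  obtain ⟨w, hw, hwy⟩ := Submodule.mem_map.mp (hy i)
  suffices hall : ∀ j, w ∈ W j by
    have hw0 : w = 0 := (Submodule.mem_bot L).mp (h.le ((Submodule.mem_iInf W).mpr hall))
    rw [hw0, map_zero] at hwy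
    exact hwy ▸ Submodule.zero_mem _
  intro j
  obtain ⟨k, hik, hjk⟩ := exists_ge_ge i j
  obtain ⟨w', hw', hwy'⟩ := Submodule.mem_map.mp (hy k)
  have h0 : w - w' ∈ LinearMap.ker τ ⊓ W i :=
    ⟨by rw [SetLike.mem_coe, LinearMap.mem_ker, map_sub, hwy, hwy', sub_self], sub_mem hw (hW hik hw')⟩
  rw [hi i le_rfl, Submodule.mem_bot, sub_eq_zero] at h0
  exact h0 ▸ hW hjk hw'

omit [Preorder ι] [IsDirected ι (· ≤ ·)] [Nonempty ι] in
/-- Separating families stay separating after a field extension. -/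
theorem iInf_ker_eq_bot_of_tmul {F : Type u} [Field F] [Algebra F L] {Z : Type u} [AddCommGroup Z] [Module F Z]
    {κ : ι → Type*} (f : ∀ i, Z →ₗ[F] (κ i → F)) (g : ∀ i, L ⊗[F] Z →ₗ[L] (κ i → L))
    (hg : ∀ i l z t, g i (l ⊗ₜ z) t = l * algebraMap F L (f i z t))
    (h : ⨅ i, LinearMap.ker (f i) = ⊥) : ⨅ i, LinearMap.ker (g i) = ⊥ := by
  classical
  refine le_bot_iff.mp fun v hv => ?_
  rw [Submodule.mem_iInf] at hv
  let b := Module.Basis.ofVectorSpace F L
  let e := TensorProduct.equivFinsuppOfBasisLeft (N := Z) b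
  have hev : v = (e v).sum fun m z => b m ⊗ₜ z := by
    conv_lhs => rw [← e.symm_apply_apply v]
    exact TensorProduct.equivFinsuppOfBasisLeft_symm_apply b (e v)
  suffices hz : ∀ m, e v m = 0 by
    have hev0 : e v = 0 := Finsupp.ext hz
    rw [hev, hev0, Finsupp.sum_zero_index]
    exact Submodule.zero_mem _
  intro m
  refine (Submodule.mem_bot F).mp (h.le ((Submodule.mem_iInf _).mpr fun i => ?_))
  rw [LinearMap.mem_ker]
  funext t
  by_cases hm : m ∈ (e v).support
  · have h0 : ∑ j ∈ (e v).support, f i (e v j) t • b j = 0 := by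
      have h1 := congrFun (LinearMap.mem_ker.mp (hv i)) t
      rw [hev, Finsupp.sum, map_sum, Finset.sum_apply, Pi.zero_apply] at h1
      refine Eq.trans (Finset.sum_congr rfl fun j _ => ?_) h1
      rw [hg, Algebra.smul_def, mul_comm]
    exact linearIndependent_iff'.mp b.linearIndependent _ _ h0 m hm
  · rw [Finsupp.notMem_support_iff.mp hm, map_zero]

omit [Preorder ι] [IsDirected ι (· ≤ ·)] [Nonempty ι] in
/-- Duality between differentials and derivations of a field. -/
theorem D_mem_span_of_forall_derivation (x : L) (Q : Set L)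
    (h : ∀ δ : Derivation ℤ L L, (∀ q ∈ Q, δ q = 0) → δ x = 0) :
    D ℤ L x ∈ Submodule.span L (D ℤ L '' Q) := by
  by_contra hne
  obtain ⟨φ, hφx, hφQ⟩ := Submodule.exists_le_ker_of_notMem hne
  refine hφx ?_
  refine h (φ.compDer (D ℤ L)) fun q hq => ?_
  exact hφQ (Submodule.subset_span ⟨q, hq, rfl⟩)

omit [Preorder ι] [IsDirected ι (· ≤ ·)] [Nonempty ι] in
/-- A dimension count forcing `ker π ∩ ker φ = 0`. -/
theorem inf_ker_eq_bot_of_finrank {V : Type u} [AddCommGroup V] [Module L V] [Module.Finite L V]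
    (π : X →ₗ[L] Y) (hπ : Function.Surjective π) (φ : X →ₗ[L] V) (hφ : Function.Surjective φ)
    [Module.Finite L (LinearMap.ker π)] (Z : Submodule L Y) (hmap : (LinearMap.ker φ).map π = Z)
    (hle : Module.finrank L (LinearMap.ker π) + Module.finrank L (Y ⧸ Z) ≤ Module.finrank L V) :
    LinearMap.ker π ⊓ LinearMap.ker φ = ⊥ := by
  obtain ⟨σ', hσ'⟩ := φ.exists_rightInverse_of_surjective (LinearMap.range_eq_top.mpr hφ)
  let g := Z.mkQ.comp (π.comp σ')
  have hgsurj : LinearMap.range g = ⊤ := by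
    refine LinearMap.range_eq_top.mpr fun y => ?_
    obtain ⟨y, rfl⟩ := Submodule.mkQ_surjective _ y
    obtain ⟨x, rfl⟩ := hπ y
    refine ⟨φ x, (Submodule.Quotient.eq _).mpr ?_⟩
    rw [LinearMap.comp_apply, ← map_sub, ← hmap]
    refine Submodule.mem_map_of_mem ?_
    rw [LinearMap.mem_ker, map_sub, ← LinearMap.comp_apply (g := σ'), hσ', LinearMap.id_apply, sub_self]
  let res := φ.domRestrict (LinearMap.ker π)
  have hker : LinearMap.ker g ≤ LinearMap.range res := by
    intro c hc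
    rw [LinearMap.mem_ker, LinearMap.comp_apply, LinearMap.comp_apply, Submodule.mkQ_apply,
      Submodule.Quotient.mk_eq_zero, ← hmap] at hc
    obtain ⟨x, hx, hxc⟩ := Submodule.mem_map.mp hc
    refine ⟨⟨σ' c - x, by rw [LinearMap.mem_ker, map_sub, hxc, sub_self]⟩, ?_⟩
    show φ (σ' c - x) = c
    rw [map_sub, LinearMap.mem_ker.mp hx, sub_zero, ← LinearMap.comp_apply, hσ', LinearMap.id_apply]
  have r1 := g.finrank_range_add_finrank_ker
  rw [hgsurj, finrank_top] at r1
  have r2 := Submodule.finrank_mono hker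
  have r3 := res.finrank_range_add_finrank_ker
  have hres : Module.finrank L (LinearMap.ker res) = 0 := by omega
  refine le_bot_iff.mp fun v hv => ?_
  have hv0 : (⟨v, hv.1⟩ : LinearMap.ker π) ∈ LinearMap.ker res := hv.2
  rw [Submodule.finrank_eq_zero.mp hres, Submodule.mem_bot] at hv0
  exact (Submodule.mem_bot L).mpr (congrArg Subtype.val hv0)

end Groth.Agent.NagataJac
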