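import Groth.Agent.NagataJac.FrobSub
import Groth.Agent.NagataJac.Separating
import Groth.Agent.ComplDeriv.PowerSeries
import Mathlib.RingTheory.Filtration
import Mathlib.RingTheory.Localization.Integer
import Mathlib.RingTheory.Finiteness.Basic

/-!
# Derivations killing a big subring kill its closure
-/

universe u

open IsLocalRing KaehlerDifferential
open MvPowerSeries (coeff C X monomial)
open scoped Classical

-- use the canonical `ℤ`-algebra structure on power series rings
attribute [local instance 10000] Ring.toIntAlgebra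
set_option linter.unusedSectionVars false

namespace Groth.Agent.NagataJac

theorem sub_truncTotal_mem {K : Type u} [Field K] {r : ℕ} (n : ℕ) (f : MvPowerSeries (Fin r) K) :
    f - (MvPowerSeries.truncTotal n f : MvPowerSeries (Fin r) K) ∈
      Ideal.span (Set.range (X : Fin r → MvPowerSeries (Fin r) K)) ^ n := by
  let I := MvPolynomial.idealOfVars (Fin r) K
  let τ := MvPowerSeries.toAdicCompletionAlgEquiv (Fin r) K
  have hker : AdicCompletion.eval I _ n (τ (f - (MvPowerSeries.truncTotal n f : MvPowerSeries (Fin r) K))) = 0 := by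
    rw [map_sub, map_sub, sub_eq_zero]
    show (MvPowerSeries.toAdicCompletion (Fin r) K f).val n =
      (MvPowerSeries.toAdicCompletion (Fin r) K (MvPowerSeries.truncTotal n f : MvPowerSeries (Fin r) K)).val n
    rw [MvPowerSeries.toAdicCompletion_apply_eq_mk_truncTotal, MvPowerSeries.toAdicCompletion_coe]
    rfl
  have h1 : τ (f - (MvPowerSeries.truncTotal n f : MvPowerSeries (Fin r) K)) ∈
      (I ^ n).map (algebraMap (MvPolynomial (Fin r) K) (AdicCompletion I (MvPolynomial (Fin r) K))) := by
    have h0 := hker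
    rw [← LinearMap.mem_ker, ← AdicCompletion.pow_smul_top_eq_ker_eval (MvPolynomial.idealOfVars_fg _ _),
      Ideal.smul_top_eq_map] at h0
    exact h0
  have h2 := Ideal.mem_map_of_mem τ.symm h1
  rw [AlgEquiv.symm_apply_apply, Ideal.map_pow, Ideal.map_pow] at h2
  refine Ideal.pow_right_mono (Ideal.map_le_iff_le_comap.mpr (Ideal.map_le_iff_le_comap.mpr
    (Ideal.span_le.mpr ?_))) n h2
  rintro _ ⟨i, rfl⟩
  show τ.symm (algebraMap (MvPolynomial (Fin r) K) _ (MvPolynomial.X i)) ∈ Ideal.span (Set.range MvPowerSeries.X)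
  rw [show τ.symm (algebraMap (MvPolynomial (Fin r) K) _ (MvPolynomial.X i)) = MvPowerSeries.X i from
    τ.symm_apply_eq.mpr (by rw [← MvPolynomial.coe_X]; exact (MvPowerSeries.toAdicCompletion_coe _).symm)]
  exact Ideal.subset_span ⟨i, rfl⟩

variable {B : Type u} [CommRing B] [IsDomain B] [IsLocalRing B] [IsNoetherianRing B]
  {L : Type u} [Field L] [Algebra B L] [IsFractionRing B L]

/-- A derivation killing a subring over which `B` is finite kills its closure. -/
theorem derivation_eq_zero_of_approx (δ : Derivation ℤ L L) {Q : Type u} [CommRing Q] (φ : Q →+* B)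
    (hφ : φ.Finite) (hQ : ∀ q, δ (algebraMap B L (φ q)) = 0) (x : B)
    (hx : ∀ n : ℕ, ∃ y, δ (algebraMap B L y) = 0 ∧ x - y ∈ maximalIdeal B ^ n) :
    δ (algebraMap B L x) = 0 := by
  have hinj := IsFractionRing.injective B L
  let _ : Algebra Q B := φ.toAlgebra
  have : Module.Finite Q B := hφ
  obtain ⟨G, hG⟩ := (inferInstance : Module.Finite Q B).fg_top
  obtain ⟨c, hc⟩ := IsLocalization.exist_integer_multiples (nonZeroDivisors B) G (fun b => δ (algebraMap B L b))
  have hint : ∀ b : B, ∃ b' : B, algebraMap B L b' = algebraMap B L c * δ (algebraMap B L b) := by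
    intro b
    have hb : b ∈ Submodule.span Q (G : Set B) := by rw [hG]; trivial
    induction hb using Submodule.span_induction with
    | mem z hz =>
      obtain ⟨w, hw⟩ := hc z hz
      exact ⟨w, hw.trans (Algebra.smul_def _ _)⟩
    | zero => exact ⟨0, by simp⟩
    | add u v _ _ hu hv =>
      obtain ⟨u', hu'⟩ := hu
      obtain ⟨v', hv'⟩ := hv
      exact ⟨u' + v', by rw [map_add, map_add, map_add, hu', hv', mul_add]⟩
    | smul q u _ hu =>
      obtain ⟨u', hu'⟩ := hu
      refine ⟨φ q * u', ?_⟩
      rw [Algebra.smul_def, map_mul, map_mul, Derivation.leibniz, show algebraMap Q B q = φ q from rfl, hQ,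
        smul_zero, add_zero, hu', smul_eq_mul]
      ring
  choose δ' hδ' using hint
  have hadd : ∀ a b, δ' (a + b) = δ' a + δ' b := fun a b => hinj (by
    rw [map_add, hδ', hδ', hδ', map_add, map_add, mul_add])
  have hmul : ∀ a b, δ' (a * b) = a * δ' b + b * δ' a := fun a b => hinj (by
    rw [map_add, map_mul, map_mul, hδ', hδ', hδ', map_mul, Derivation.leibniz, smul_eq_mul, smul_eq_mul]
    ring)
  have hpow : ∀ n, ∀ z ∈ maximalIdeal B ^ (n + 1), δ' z ∈ maximalIdeal B ^ n := by
    intro n
    induction n with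
    | zero => intro z _; rw [pow_zero, Ideal.one_eq_top]; trivial
    | succ n ih =>
      intro z hz
      rw [pow_succ] at hz
      refine Submodule.mul_induction_on hz (fun a ha b hb => ?_) fun a b ha hb => by
        rw [hadd]; exact add_mem ha hb
      rw [hmul]
      refine add_mem (Ideal.mul_mem_right _ _ ha) ?_
      rw [pow_succ, mul_comm b]
      exact Ideal.mul_mem_mul (ih a ha) hb
  have hzero : δ' x = 0 := by
    have hmem : δ' x ∈ ⨅ n : ℕ, maximalIdeal B ^ n := by
      refine Submodule.mem_iInf _ |>.mpr fun n => ?_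
      obtain ⟨y, hy, hxy⟩ := hx (n + 1)
      have hy' : δ' y = 0 := hinj (by rw [hδ', hy, mul_zero, map_zero])
      have := hpow n _ hxy
      have h3 := hadd (x - y) y
      rw [sub_add_cancel, hy', add_zero] at h3
      rw [h3]
      exact this
    rw [Ideal.iInf_pow_eq_bot_of_isLocalRing _ (maximalIdeal.isMaximal B).ne_top, Ideal.mem_bot] at hmem
    exact hmem
  have h := hδ' x
  rw [hzero, map_zero, eq_comm, mul_eq_zero] at h
  exact h.resolve_left ((map_ne_zero_iff _ hinj).mpr (nonZeroDivisors.coe_ne_zero c))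

variable {K : Type u} [Field K] {p : ℕ} [Fact p.Prime] [CharP K p] (db : DualBasis p K)

/-- The images of `K_S[[T^p]]` and `K_S[[y^p]]` in a common domain have differentials spanning the same
subspace. -/
theorem span_D_image_le {r s : ℕ} [CharP L p] (f : MvPowerSeries (Fin r) K →+* B) (g : MvPowerSeries (Fin s) K →+* B)
    (hC : ∀ c, f (C c) = g (C c)) (hg : ∀ i, g (X i) ∈ maximalIdeal B) (hf : f.Finite) (S : Finset db.ι₀) :
    Submodule.span L ((fun q => D ℤ L (algebraMap B L (g q))) '' (frobSub (σ := Fin s) db S : Set _)) ≤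
      Submodule.span L ((fun q => D ℤ L (algebraMap B L (f q))) '' (frobSub (σ := Fin r) db S : Set _)) := by
  rw [Submodule.span_le]
  rintro _ ⟨q, hq, rfl⟩
  rw [← Function.comp_def (D ℤ L) (fun q => algebraMap B L (f q)), Set.image_comp]
  refine D_mem_span_of_forall_derivation _ _ fun δ hδ => ?_
  have hpow : ∀ y : L, δ (y ^ p) = 0 := fun y => by
    rw [Derivation.leibniz_pow, ← Nat.cast_smul_eq_nsmul L, CharP.cast_eq_zero, zero_smul]
  refine derivation_eq_zero_of_approx δ (f.comp (frobSub (σ := Fin r) db S).subtype)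
    (RingHom.Finite.comp hf ?_) (fun a => hδ _ ⟨a.1, a.2, rfl⟩) (g q) fun n => ?_
  · exact finite_frobSub (σ := Fin r) db S
  refine ⟨g (MvPowerSeries.truncTotal n q : MvPowerSeries (Fin s) K), ?_, ?_⟩
  · rw [(MvPowerSeries.truncTotal n q).as_sum, ← MvPolynomial.coeToMvPowerSeries.ringHom_apply, map_sum, map_sum,
      map_sum, map_sum]
    refine Finset.sum_eq_zero fun e _ => ?_
    rw [MvPolynomial.coeToMvPowerSeries.ringHom_apply, MvPolynomial.coe_monomial]
    by_cases hce : MvPolynomial.coeff e (MvPowerSeries.truncTotal n q) = 0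
    · rw [hce, map_zero, map_zero, map_zero, map_zero]
    · rw [MvPowerSeries.coeff_truncTotal_eq_ite, ite_eq_right_iff, Classical.not_imp] at hce
      rw [MvPowerSeries.coeff_truncTotal _ hce.1]
      obtain ⟨hcK, hdvd⟩ := (mem_frobSub_iff_coeff db).1 hq e
      have he : e = p • Finsupp.equivFunOnFinite.symm (fun j => e j / p) :=
        Finsupp.ext fun j => by simp [Nat.mul_div_cancel' (hdvd hce.2 j)]
      have hmon : (monomial e (coeff e q) : MvPowerSeries (Fin s) K) =
          C (coeff e q) * monomial (Finsupp.equivFunOnFinite.symm (fun j => e j / p)) 1 ^ p := by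
        rw [MvPowerSeries.monomial_pow, one_pow, ← he, ← MvPowerSeries.monomial_zero_eq_C_apply,
          MvPowerSeries.monomial_mul_monomial, zero_add, mul_one]
      rw [hmon, map_mul, map_mul, map_pow, map_pow, Derivation.leibniz, hpow, ← hC,
        hδ _ ⟨C (coeff e q), C_mem_frobSub db hcK, rfl⟩, smul_zero, smul_zero, add_zero]
  · have hle : Ideal.span (Set.range (X : Fin s → MvPowerSeries (Fin s) K)) ≤ (maximalIdeal B).comap g :=
      Ideal.span_le.mpr (by rintro _ ⟨i, rfl⟩; exact hg i)
    rw [← map_sub]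
    exact (Ideal.pow_right_mono (Ideal.map_le_iff_le_comap.mpr hle) n)
      (Ideal.map_pow g _ n ▸ Ideal.mem_map_of_mem g (sub_truncTotal_mem n q))

end Groth.Agent.NagataJac
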