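import Groth.Agent.NagataJac.ExistsDer
import Groth.Agent.S2471
import Groth.Agent.S4574
import Groth.Agent.S9444
import Groth.Agent.PP16Lib.AdicOmega
import Groth.Agent.EGA41Lib.Separable
import Groth.Agent.EGA41Lib.ResidueSeq
import Groth.Agent.DepthLib.RegularInfSq
import Groth.Agent.ComplDeriv.NagataJacobian

/-!
# Nagata's Jacobian criterion
-/

universe u

open IsLocalRing TensorProduct KaehlerDifferential
open scoped Classical

-- use the canonical `ℤ`-algebra structures
attribute [local instance 10000] Ring.toIntAlgebra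

set_option linter.unusedSectionVars false

namespace Groth.Agent.NagataJac

theorem isAdicFormallySmooth_of_algEquiv {k S T : Type u} [CommRing k] [CommRing S] [CommRing T] [IsLocalRing S]
    [IsLocalRing T] [Algebra k S] [Algebra k T] (e : S ≃ₐ[k] T)
    (h : CAlgX.IsAdicFormallySmooth k S (maximalIdeal S)) : CAlgX.IsAdicFormallySmooth k T (maximalIdeal T) := by
  intro E _ _ J hJ ψ hψ
  obtain ⟨n, hn⟩ := hψ
  obtain ⟨χ, hχ⟩ := h E J hJ (ψ.comp e.toAlgHom) ⟨n, fun x hx => hn (e x) (by
    have hle : (maximalIdeal S).map e.toRingEquiv.toRingHom ≤ maximalIdeal T := by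
      refine Ideal.map_le_iff_le_comap.mpr fun y hy => ?_
      rw [Ideal.mem_comap, mem_maximalIdeal, mem_nonunits_iff]
      rw [mem_maximalIdeal, mem_nonunits_iff] at hy
      exact fun hu => hy (by simpa using hu.map e.symm)
    exact Ideal.pow_right_mono hle n (Ideal.map_pow e.toRingEquiv.toRingHom _ n ▸
      Ideal.mem_map_of_mem e.toRingEquiv.toRingHom hx))⟩
  refine ⟨χ.comp e.symm.toAlgHom, AlgHom.ext fun x => ?_⟩
  have := AlgHom.congr_fun hχ (e.symm x)
  simpa using this

/-- Derivations extend along localizations. -/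
theorem exists_extend_localization {A R N : Type u} [CommRing A] [CommRing R] [Algebra A R] (M : Submonoid A)
    [IsLocalization M R] [AddCommGroup N] [Module R N] [Module A N] [IsScalarTower A R N]
    (δ : Derivation ℤ A N) : ∃ δ' : Derivation ℤ R N, ∀ a, δ' (algebraMap A R a) = δ a := by
  have := Algebra.FormallyEtale.of_isLocalization (Rₘ := R) M
  refine ⟨((δ.liftKaehlerDifferential.liftBaseChange R).comp
    (KaehlerDifferential.tensorKaehlerEquivOfFormallyEtale ℤ A R).symm.toLinearMap).compDer (D ℤ R), fun a => ?_⟩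
  show δ.liftKaehlerDifferential.liftBaseChange R
    ((KaehlerDifferential.tensorKaehlerEquivOfFormallyEtale ℤ A R).symm (D ℤ R (algebraMap A R a))) = _
  rw [KaehlerDifferential.tensorKaehlerEquivOfFormallyEtale_symm_D_algebraMap, LinearMap.liftBaseChange_tmul,
    one_smul, Derivation.liftKaehlerDifferential_comp_D]

section injectivity

variable {k S L : Type u} [Field k] [CommRing S] [Field L] [Algebra k S] [Algebra S L] [Algebra k L]
  [IsScalarTower k S L]

theorem lTensor_injective_of_extend
    (h : ∀ δ₀ : Derivation ℤ k L, ∃ δ : Derivation ℤ S L, ∀ a, δ (algebraMap k S a) = δ₀ a) :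
    Function.Injective ((mapBaseChange ℤ k S).lTensor L) := by
  rw [injective_iff_map_eq_zero]
  intro y hy
  by_contra hne
  let c := AlgebraTensorModule.cancelBaseChange k S L L Ω[k⁄ℤ]
  obtain ⟨φ, hφ⟩ := Module.Projective.exists_dual_ne_zero L (fun h0 => hne (c.map_eq_zero_iff.mp h0))
  obtain ⟨δ, hδ⟩ := h (((φ.restrictScalars k).comp (TensorProduct.mk k L Ω[k⁄ℤ] 1)).compDer (D ℤ k))
  have key : (δ.liftKaehlerDifferential.liftBaseChange L).comp ((mapBaseChange ℤ k S).baseChange L) =
      φ.comp c.toLinearMap := by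
    refine TensorProduct.AlgebraTensorModule.curry_injective (LinearMap.ext_ring ?_)
    refine TensorProduct.AlgebraTensorModule.curry_injective (LinearMap.ext_ring
      (LinearMap.ext_on (KaehlerDifferential.span_range_derivation ℤ k) ?_))
    rintro _ ⟨a, rfl⟩
    simp [c, hδ]
  have h2 := LinearMap.congr_fun key y
  rw [LinearMap.comp_apply, show (mapBaseChange ℤ k S).baseChange L y = (mapBaseChange ℤ k S).lTensor L y from rfl,
    hy, map_zero, LinearMap.comp_apply] at h2
  exact hφ h2.symm

theorem exists_extend_of_lTensor_injective (h : Function.Injective ((mapBaseChange ℤ k S).lTensor L))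
    (δ₀ : Derivation ℤ k L) : ∃ δ : Derivation ℤ S L, ∀ a, δ (algebraMap k S a) = δ₀ a := by
  let u : L ⊗[S] (S ⊗[k] Ω[k⁄ℤ]) →ₗ[L] L ⊗[S] Ω[S⁄ℤ] := (mapBaseChange ℤ k S).baseChange L
  let c := AlgebraTensorModule.cancelBaseChange k S L L Ω[k⁄ℤ]
  obtain ⟨r, hr⟩ := u.exists_leftInverse_of_injective (LinearMap.ker_eq_bot.mpr h)
  let Φ : L ⊗[S] Ω[S⁄ℤ] →ₗ[L] L := (δ₀.liftKaehlerDifferential.liftBaseChange L).comp (c.toLinearMap.comp r)
  refine ⟨((Φ.restrictScalars S).comp (TensorProduct.mk S L Ω[S⁄ℤ] 1)).compDer (D ℤ S), fun a => ?_⟩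
  show Φ ((1 : L) ⊗ₜ D ℤ S (algebraMap k S a)) = δ₀ a
  have h1 : u ((1 : L) ⊗ₜ ((1 : S) ⊗ₜ D ℤ k a)) = (1 : L) ⊗ₜ D ℤ S (algebraMap k S a) := by
    rw [LinearMap.baseChange_tmul, mapBaseChange_tmul, one_smul, map_D]
  rw [← h1]
  have h2 := LinearMap.congr_fun hr ((1 : L) ⊗ₜ ((1 : S) ⊗ₜ D ℤ k a))
  simp only [LinearMap.comp_apply, LinearMap.id_apply] at h2
  simp [Φ, c, h2, Derivation.liftKaehlerDifferential_comp_D]

/-- A derivation killing generators of an ideal below the kernel of `S → L` descends. -/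
theorem exists_descend (J : Ideal S) {m : ℕ} (f : Fin m → S) (hJ : J = Ideal.span (Set.range f))
    (hfL : ∀ j, algebraMap S L (f j) = 0) (δ : Derivation ℤ S L) (hδ : ∀ j, δ (f j) = 0)
    [Algebra (S ⧸ J) L] [IsScalarTower S (S ⧸ J) L] :
    ∃ δ' : Derivation ℤ (S ⧸ J) L, ∀ x, δ' (Ideal.Quotient.mk J x) = δ x := by
  have hmk : ∀ x, algebraMap S L x = algebraMap (S ⧸ J) L (Ideal.Quotient.mk J x) := fun x =>
    IsScalarTower.algebraMap_apply S (S ⧸ J) L x
  have hzero : ∀ x ∈ J, δ x = 0 := by
    intro x hx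
    rw [hJ, Ideal.mem_span_range_iff_exists_fun] at hx
    obtain ⟨a, rfl⟩ := hx
    rw [map_sum]
    refine Finset.sum_eq_zero fun j _ => ?_
    rw [Derivation.leibniz, hδ, smul_zero, zero_add, Algebra.smul_def, hfL, zero_mul]
  have hwd : ∀ a b, Ideal.Quotient.mk J a = Ideal.Quotient.mk J b → δ a = δ b := fun a b hab => by
    rw [← sub_eq_zero, ← map_sub]
    exact hzero _ (Ideal.Quotient.eq.mp hab)
  choose s hs using Ideal.Quotient.mk_surjective (I := J)
  refine ⟨ComplDeriv.intDerivation (AddMonoidHom.mk' (fun x => δ (s x)) fun a b => ?_) fun a b => ?_, fun x => ?_⟩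
  · rw [← map_add δ]
    exact hwd _ _ (by rw [map_add, hs, hs, hs])
  · show δ (s (a * b)) = a • δ (s b) + b • δ (s a)
    rw [hwd (s (a * b)) (s a * s b) (by rw [map_mul, hs, hs, hs]), Derivation.leibniz,
      Algebra.smul_def, Algebra.smul_def, Algebra.smul_def, Algebra.smul_def, hmk, hmk, hs, hs]
  · exact hwd _ _ (hs _)

end injectivity

section criterion

variable {A : Type u} [CommRing A] (P q : Ideal A) [P.IsPrime] [IsRegularLocalRing (Localization.AtPrime P)]

/-- A Jacobian minor outside `P` gives regularity. -/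
theorem isRegularLocalRing_of_det (hqp : q ≤ P) {m : ℕ} (D : Fin m → Derivation ℤ A A)
    (f : Fin m → A) (hf : ∀ i, f i ∈ q)
    (hgen : q.map (algebraMap A (Localization.AtPrime P)) =
      Ideal.span (Set.range fun i => algebraMap A (Localization.AtPrime P) (f i)))
    (hdet : Matrix.det (Matrix.of fun i j => D i (f j)) ∉ P) :
    IsRegularLocalRing (Localization.AtPrime P ⧸ q.map (algebraMap A (Localization.AtPrime P))) := by
  let R := Localization.AtPrime P
  let L := P.ResidueField
  have hL0 : ∀ x : A, algebraMap A L x = 0 ↔ x ∈ P := fun x => Ideal.algebraMap_residueField_eq_zero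
  refine DepthLib.isRegularLocalRing_quotient_of_inf_sq_le _ R _ rfl ?_ fun z ⟨hzJ, hz2⟩ => ?_
  · rw [← IsLocalization.AtPrime.map_eq_maximalIdeal P R]; exact Ideal.map_mono hqp
  rw [SetLike.mem_coe, hgen, Ideal.mem_span_range_iff_exists_fun] at hzJ
  obtain ⟨c, rfl⟩ := hzJ
  obtain ⟨⟨u, hu⟩, hbu⟩ := IsLocalization.exist_integer_multiples P.primeCompl Finset.univ c
  choose b hb using fun j => hbu j (Finset.mem_univ j)
  have hsum : algebraMap A R (∑ j, b j * f j) = algebraMap A R u * ∑ j, c j * algebraMap A R (f j) := by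
    rw [map_sum, Finset.mul_sum]
    refine Finset.sum_congr rfl fun j _ => ?_
    rw [map_mul, hb, Algebra.smul_def, mul_assoc]
  have h2 : algebraMap A R (∑ j, b j * f j) ∈ (P ^ 2).map (algebraMap A R) := by
    rw [hsum, Ideal.map_pow, IsLocalization.AtPrime.map_eq_maximalIdeal P R]
    exact Ideal.mul_mem_left _ _ hz2
  obtain ⟨⟨⟨a, ha⟩, ⟨w, hw⟩⟩, haw⟩ := (IsLocalization.mem_map_algebraMap_iff P.primeCompl R).mp h2
  rw [← map_mul] at haw
  obtain ⟨⟨v, hv⟩, hva⟩ := IsLocalization.exists_of_eq (M := P.primeCompl) haw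
  have hmem : (v * w) * ∑ j, b j * f j ∈ P ^ 2 := by
    have : v * ((∑ j, b j * f j) * w) ∈ P ^ 2 := hva ▸ Ideal.mul_mem_left _ v ha
    convert this using 1; ring
  have hD : ∀ i, ∀ x ∈ P ^ 2, D i x ∈ P := fun i x hx => by
    rw [pow_two] at hx
    refine Submodule.mul_induction_on hx (fun a ha b hb => ?_) fun a b ha hb => by rw [map_add]; exact add_mem ha hb
    rw [Derivation.leibniz]
    exact add_mem (Ideal.mul_mem_right _ _ ha) (Ideal.mul_mem_right _ _ hb)
  let M : Matrix (Fin m) (Fin m) L := (algebraMap A L).mapMatrix (Matrix.of fun i j => D i (f j))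
  have hzero : ∀ i, ∑ j, algebraMap A L (D i (f j)) * algebraMap A L (b j) = 0 := fun i => by
    have h := (hL0 _).mpr (hD i _ hmem)
    rw [Derivation.leibniz, smul_eq_mul, smul_eq_mul, map_add, map_mul _ (v * w), map_mul _ (∑ j, b j * f j)] at h
    have hfp : ∀ j, algebraMap A L (f j) = 0 := fun j => (hL0 _).mpr (hqp (hf j))
    have hS : algebraMap A L (∑ j, b j * f j) = 0 := by simp [hfp]
    have hvw : algebraMap A L (v * w) ≠ 0 := fun h0 => by
      rcases (inferInstance : P.IsPrime).mem_or_mem ((hL0 _).mp h0) with h0 | h0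
      exacts [hv h0, hw h0]
    rw [hS, zero_mul, add_zero, mul_eq_zero, or_iff_right hvw, map_sum (D i), map_sum] at h
    rw [← h]
    refine Finset.sum_congr rfl fun j _ => ?_
    rw [Derivation.leibniz, map_add, smul_eq_mul, smul_eq_mul, map_mul, map_mul, hfp, zero_mul, add_zero, mul_comm]
  have hb0 : (fun j => algebraMap A L (b j)) = 0 := by
    refine Matrix.eq_zero_of_mulVec_eq_zero (M := M) ?_ (funext fun i => hzero i)
    rw [← RingHom.map_det]
    exact fun h0 => hdet ((hL0 _).mp h0)
  have hunit : IsUnit (algebraMap A R u) := IsLocalization.map_units R (⟨u, hu⟩ : P.primeCompl)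
  rw [← Ideal.unit_mul_mem_iff_mem _ hunit, ← hsum, map_sum]
  refine Submodule.sum_mem _ fun j _ => ?_
  rw [map_mul, ← IsLocalization.AtPrime.map_eq_maximalIdeal P R, ← Ideal.map_mul]
  have hbj : b j ∈ P := (hL0 _).mp (congrFun hb0 j)
  rw [← map_mul]
  exact Ideal.mem_map_of_mem _ (Ideal.mul_mem_mul hbj (hf j))

omit [IsRegularLocalRing (Localization.AtPrime P)] in
theorem exists_extend_residue (δ : Derivation ℤ A A) :
    ∃ E : Derivation ℤ (Localization.AtPrime P) P.ResidueField,
      ∀ a, E (algebraMap A (Localization.AtPrime P) a) = algebraMap A P.ResidueField (δ a) :=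
  exists_extend_localization (R := Localization.AtPrime P) P.primeCompl
    (((Algebra.linearMap A P.ResidueField).comp δ.liftKaehlerDifferential).compDer (D ℤ A)) |>.imp
    fun E hE a => (hE a).trans (by
      show algebraMap A P.ResidueField (δ.liftKaehlerDifferential (D ℤ A a)) = _
      rw [Derivation.liftKaehlerDifferential_comp_D])

variable {k : Type u} [Field k] [Algebra k A] [IsNoetherianRing A]

omit [IsNoetherianRing A] in
/-- The local ring of `A ⧸ q` at `P`. -/
noncomputable def quotLocEquiv (hqp : q ≤ P) [(P.map (Ideal.Quotient.mk q)).IsPrime] :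
    (Localization.AtPrime P ⧸ q.map (algebraMap A (Localization.AtPrime P))) ≃ₐ[k]
      Localization.AtPrime (P.map (Ideal.Quotient.mk q)) := by
  let R := Localization.AtPrime P
  let Q := R ⧸ q.map (algebraMap A R)
  have hM : Algebra.algebraMapSubmonoid (A ⧸ q) P.primeCompl = (P.map (Ideal.Quotient.mk q)).primeCompl := by
    ext z
    obtain ⟨z, rfl⟩ := Ideal.Quotient.mk_surjective z
    have hiff : Ideal.Quotient.mk q z ∈ P.map (Ideal.Quotient.mk q) ↔ z ∈ P := by
      rw [← Ideal.mem_comap, Ideal.comap_map_of_surjective _ Ideal.Quotient.mk_surjective,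
        ← RingHom.ker_eq_comap_bot, Ideal.mk_ker, sup_eq_left.mpr hqp]
    constructor
    · rintro ⟨a, ha, hz⟩ hzp
      refine ha ?_
      have h : Ideal.Quotient.mk q z = Ideal.Quotient.mk q a := hz.symm
      rw [Ideal.Quotient.mk_eq_mk_iff_sub_mem] at h
      have := Ideal.sub_mem _ (hiff.mp hzp) (hqp h)
      rwa [sub_sub_cancel] at this
    · exact fun hz => ⟨z, fun h => hz (hiff.mpr h), rfl⟩
  have : IsLocalization (P.map (Ideal.Quotient.mk q)).primeCompl Q := hM ▸ inferInstance
  have : IsScalarTower k (A ⧸ q) Q := IsScalarTower.of_algebraMap_eq fun c => by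
    rw [IsScalarTower.algebraMap_apply k A Q, IsScalarTower.algebraMap_apply A (A ⧸ q) Q,
      ← IsScalarTower.algebraMap_apply k A (A ⧸ q)]
  exact ((IsLocalization.algEquiv (P.map (Ideal.Quotient.mk q)).primeCompl Q
    (Localization.AtPrime (P.map (Ideal.Quotient.mk q)))).restrictScalars k)

variable (hqp : q ≤ P)

include hqp in
/-- The (⇐) half of the criterion. -/
theorem formallySmooth_quotient_of_det
    (hkR : Function.Injective ((mapBaseChange ℤ k (Localization.AtPrime P)).lTensor P.ResidueField)) {m : ℕ}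
    (D : Fin m → Derivation k A A) (f : Fin m → A) (hf : ∀ i, f i ∈ q)
    (hgen : q.map (algebraMap A (Localization.AtPrime P)) =
      Ideal.span (Set.range fun i => algebraMap A (Localization.AtPrime P) (f i)))
    (hdet : Matrix.det (Matrix.of fun i j => D i (f j)) ∉ P)
    [(P.map (Ideal.Quotient.mk q)).IsPrime] :
    CAlgX.IsAdicFormallySmooth k (Localization.AtPrime (P.map (Ideal.Quotient.mk q)))
      (maximalIdeal (Localization.AtPrime (P.map (Ideal.Quotient.mk q)))) := by
  let R := Localization.AtPrime P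
  let L := P.ResidueField
  let J := q.map (algebraMap A R)
  have hJm : J ≤ maximalIdeal R := by
    rw [← IsLocalization.AtPrime.map_eq_maximalIdeal P R]; exact Ideal.map_mono hqp
  have : Nontrivial (R ⧸ J) := Ideal.Quotient.nontrivial_iff.mpr fun h =>
    (maximalIdeal.isMaximal R).ne_top (top_le_iff.mp (h ▸ hJm))
  have : IsLocalRing (R ⧸ J) := .of_surjective' (Ideal.Quotient.mk J) Ideal.Quotient.mk_surjective
  refine isAdicFormallySmooth_of_algEquiv (quotLocEquiv P q hqp) (S2471.result.mpr ?_)
  have hreg : IsRegularLocalRing (R ⧸ J) :=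
    isRegularLocalRing_of_det P q hqp (fun i => (D i).restrictScalars ℤ) f hf hgen hdet
  refine ⟨hreg, ?_⟩
  let res : R ⧸ J →+* L := Ideal.Quotient.lift J (algebraMap R L) fun x hx => by
    rw [show algebraMap R L x = residue R x from rfl, residue_eq_zero_iff]
    exact hJm hx
  let _ : Algebra (R ⧸ J) L := res.toAlgebra
  have : IsScalarTower R (R ⧸ J) L := ⟨fun a b c => by
    obtain ⟨b, rfl⟩ := Ideal.Quotient.mk_surjective b
    rw [Algebra.smul_def (a • Ideal.Quotient.mk J b) c, Algebra.smul_def (Ideal.Quotient.mk J b) c,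
      Algebra.smul_def a (algebraMap (R ⧸ J) L (Ideal.Quotient.mk J b) * c), ← mul_assoc]
    congr 1
    try exact (map_mul res (Ideal.Quotient.mk J a) (Ideal.Quotient.mk J b))⟩
  have : IsScalarTower k (R ⧸ J) L := IsScalarTower.of_algebraMap_eq (R := k) (S := R ⧸ J) (A := L) fun x => by
    exact IsScalarTower.algebraMap_apply k R L x
  have hsurj : Function.Surjective (algebraMap (R ⧸ J) L) := fun y => by
    obtain ⟨x, rfl⟩ := residue_surjective (R := R) y
    exact ⟨Ideal.Quotient.mk J x, rfl⟩
  refine (ComplDeriv.kInj_iff hsurj).mpr (lTensor_injective_of_extend fun δ₀ => ?_)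
  obtain ⟨δR, hδR⟩ := exists_extend_of_lTensor_injective hkR δ₀
  -- extensions of the given derivations to `R`
  choose E hE using fun i => exists_extend_residue P ((D i).restrictScalars ℤ)
  let M : Matrix (Fin m) (Fin m) L := (algebraMap A L).mapMatrix (Matrix.of fun i j => D i (f j))
  have hM : IsUnit M.det := by
    rw [← RingHom.map_det, isUnit_iff_ne_zero]
    exact fun h0 => hdet (Ideal.algebraMap_residueField_eq_zero.mp h0)
  let β : Fin m → L := Matrix.vecMul (fun j => δR (algebraMap A R (f j))) M⁻¹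
  let δ : Derivation ℤ R L := δR - ∑ i, β i • E i
  have hδapp : ∀ x, δ x = δR x - ∑ i, β i • E i x := fun x => by
    have hsum : ∀ (s : Finset (Fin m)), (∑ i ∈ s, β i • E i) x = ∑ i ∈ s, β i • E i x := fun s => by
      induction s using Finset.induction_on with
      | empty => rfl
      | insert a s ha ih =>
        rw [Finset.sum_insert ha, Finset.sum_insert ha, Derivation.add_apply, Derivation.smul_apply, ih]
    rw [Derivation.sub_apply, hsum]
  have hδf : ∀ j, δ (algebraMap A R (f j)) = 0 := fun j => by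
    rw [hδapp, sub_eq_zero]
    have h1 : Matrix.vecMul β M = fun j => δR (algebraMap A R (f j)) := by
      rw [Matrix.vecMul_vecMul, Matrix.nonsing_inv_mul M hM, Matrix.vecMul_one]
    rw [← congrFun h1 j]
    symm
    rw [Matrix.vecMul, dotProduct]
    refine Finset.sum_congr rfl fun i _ => ?_
    rw [hE, smul_eq_mul]
    rfl
  obtain ⟨δ', hδ'⟩ := exists_descend J (fun j => algebraMap A R (f j)) hgen (fun j => by
    rw [← IsScalarTower.algebraMap_apply]
    exact Ideal.algebraMap_residueField_eq_zero.mpr (hqp (hf j))) δ hδf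
  refine ⟨δ', fun a => ?_⟩
  rw [IsScalarTower.algebraMap_apply k R (R ⧸ J), Ideal.Quotient.algebraMap_eq, hδ', hδapp, hδR,
    IsScalarTower.algebraMap_apply k A R, sub_eq_self]
  refine Finset.sum_eq_zero fun i _ => ?_
  rw [hE]
  show β i • algebraMap A L (D i (algebraMap k A a)) = 0
  rw [Derivation.map_algebraMap, map_zero, smul_zero]

include hqp in
theorem isRegularLocalRing_of_formallySmooth_quotient [(P.map (Ideal.Quotient.mk q)).IsPrime]
    (h : CAlgX.IsAdicFormallySmooth k (Localization.AtPrime (P.map (Ideal.Quotient.mk q)))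
      (maximalIdeal (Localization.AtPrime (P.map (Ideal.Quotient.mk q))))) :
    IsRegularLocalRing (Localization.AtPrime P ⧸ q.map (algebraMap A (Localization.AtPrime P))) := by
  have : IsNoetherianRing (Localization.AtPrime (P.map (Ideal.Quotient.mk q))) :=
    IsLocalization.isNoetherianRing (P.map (Ideal.Quotient.mk q)).primeCompl _ inferInstance
  exact @IsRegularLocalRing.of_ringEquiv _ _ (S2471.result.mp h).1 _ _ (quotLocEquiv (k := k) P q hqp).symm.toRingEquiv

include hqp in
/-- A regular quotient is cut out by part of a regular system of parameters. -/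
theorem exists_generators
    (hreg : IsRegularLocalRing (Localization.AtPrime P ⧸ q.map (algebraMap A (Localization.AtPrime P)))) :
    ∃ (m : ℕ) (f : Fin m → A), (∀ i, f i ∈ q) ∧
      q.map (algebraMap A (Localization.AtPrime P)) =
        Ideal.span (Set.range fun i => algebraMap A (Localization.AtPrime P) (f i)) ∧
      ∀ a : Fin m → Localization.AtPrime P,
        (∑ i, a i * algebraMap A (Localization.AtPrime P) (f i)) ∈ maximalIdeal (Localization.AtPrime P) ^ 2 →
        ∀ i, a i ∈ maximalIdeal (Localization.AtPrime P) := by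
  let R := Localization.AtPrime P
  let h := (maximalIdeal R).spanFinrank
  obtain ⟨xs, hlen, hspan, c, hc, hI⟩ := DepthLib.exists_regular_system_of_regular_quotient h R _ rfl hreg
  let x : Fin h → R := fun l => xs[l.1]'(hlen.symm ▸ l.2)
  have hrange : ∀ c' ≤ h, Ideal.ofList (xs.take c') = Ideal.span (x '' {l | l.1 < c'}) := fun c' hc' => by
    refine congrArg Ideal.span (Set.ext fun z => ?_)
    rw [Set.mem_ofPred_eq, List.mem_take_iff_getElem]
    constructor
    · rintro ⟨i, hi, rfl⟩
      exact ⟨⟨i, by omega⟩, show i < c' by omega, rfl⟩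
    · rintro ⟨l, hl, rfl⟩
      exact ⟨l.1, by have : l.1 < c' := hl; omega, rfl⟩
  have hxmem : ∀ l, x l ∈ maximalIdeal R := fun l => by
    rw [← hspan]; exact Ideal.subset_span (List.getElem_mem _)
  have hq : ∀ l : Fin c, ∃ g : A, g ∈ q ∧
      ∃ v : R, IsUnit v ∧ algebraMap A R g = x (Fin.castLE hc l) * v := by
    intro l
    have hx : x (Fin.castLE hc l) ∈ q.map (algebraMap A R) := by
      rw [hI, hrange c hc]; exact Ideal.subset_span ⟨_, l.2, rfl⟩
    obtain ⟨⟨⟨a, ha⟩, t⟩, h'⟩ := (IsLocalization.mem_map_algebraMap_iff P.primeCompl R).mp hx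
    exact ⟨a, ha, _, IsLocalization.map_units R t, h'.symm⟩
  choose f hf v hv hfx using hq
  refine ⟨c, f, hf, ?_, fun a ha => ?_⟩
  · rw [hI, hrange c hc]
    refine le_antisymm (Ideal.span_le.mpr ?_) (Ideal.span_le.mpr ?_)
    · rintro _ ⟨l, hl, rfl⟩
      rw [SetLike.mem_coe, show l = Fin.castLE hc ⟨l.1, hl⟩ from rfl, ← Ideal.mul_unit_mem_iff_mem _ (hv _), ← hfx]
      exact Ideal.subset_span ⟨_, rfl⟩
    · rintro _ ⟨l, rfl⟩
      show algebraMap A R (f l) ∈ _
      rw [hfx]
      exact Ideal.mul_mem_right _ _ (Ideal.subset_span ⟨_, l.2, rfl⟩)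
  · -- the classes of `x` form a basis of the cotangent space
    let w : Fin h → CotangentSpace R := fun l => (maximalIdeal R).toCotangent ⟨x l, hxmem l⟩
    have htop : Submodule.span (ResidueField R) (Set.range w) = ⊤ := by
      refine eq_top_iff.mpr fun z _ => ?_
      obtain ⟨⟨z, hz⟩, rfl⟩ := Ideal.toCotangent_surjective _ z
      have hz' : z ∈ Ideal.span (Set.range x) := by
        have := hspan.ge hz
        rw [← List.take_length (l := xs), hlen, hrange h le_rfl] at this
        exact Ideal.span_mono (Set.image_subset_range _ _) this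
      obtain ⟨co, hco⟩ := (Ideal.mem_span_range_iff_exists_fun).mp hz'
      rw [show (⟨z, hz⟩ : maximalIdeal R) = ∑ l, co l • (⟨x l, hxmem l⟩ : maximalIdeal R) from
        Subtype.ext (by simp [← hco]), map_sum]
      refine Submodule.sum_mem _ fun l _ => ?_
      rw [map_smul, ← algebraMap_smul (ResidueField R) (co l)]
      exact Submodule.smul_mem _ _ (Submodule.subset_span ⟨l, rfl⟩)
    have hli : LinearIndependent (ResidueField R) w := by
      refine linearIndependent_of_top_le_span_of_card_eq_finrank htop.ge ?_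
      rw [Fintype.card_fin, ← IsLocalRing.spanFinrank_maximalIdeal_eq_finrank_cotangentSpace]
    have hli' := Fintype.linearIndependent_iff.mp (hli.comp _ (Fin.castLE_injective hc))
    have hmem : ∀ l, a l * v l * x (Fin.castLE hc l) ∈ maximalIdeal R := fun l =>
      Ideal.mul_mem_left _ _ (hxmem _)
    have h0 : ∑ l, residue R (a l * v l) • w (Fin.castLE hc l) = 0 := by
      have h1 : (maximalIdeal R).toCotangent
          (∑ l, (a l * v l) • (⟨x (Fin.castLE hc l), hxmem _⟩ : maximalIdeal R)) = 0 := by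
        rw [Ideal.toCotangent_eq_zero]
        convert ha using 1
        simp only [Submodule.coe_sum, Submodule.coe_smul, smul_eq_mul]
        refine Finset.sum_congr rfl fun l _ => ?_
        rw [hfx]; ring
      rw [map_sum] at h1
      rw [← h1]
      refine Finset.sum_congr rfl fun l _ => ?_
      rw [map_smul]
      exact algebraMap_smul (ResidueField R) (a l * v l) (w (Fin.castLE hc l))
    intro i
    have h2 := (residue_eq_zero_iff _).mp (hli' _ h0 i)
    exact (Ideal.mul_unit_mem_iff_mem _ (hv i)).mp h2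

end criterion

end Groth.Agent.NagataJac
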