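import Groth.Agent.NagataJac.FracInter
import Groth.Agent.NagataJac.Separating
import Groth.Agent.EGA41Lib.Cartier
import Groth.Agent.S2475
import Mathlib.RingTheory.Etale.Kaehler
import Mathlib.FieldTheory.IntermediateField.Basic
import Mathlib.LinearAlgebra.Isomorphisms

/-!
# Derivations of `K[[T]]` separate differentials over finite extensions of its fraction field
-/

universe u

open TensorProduct KaehlerDifferential
open MvPowerSeries (coeff C X)
open scoped Classical

-- use the canonical `ℤ`-algebra structure on power series rings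
attribute [local instance 10000] Ring.toIntAlgebra

set_option linter.unusedSectionVars false

namespace Groth.Agent.NagataJac

theorem eq_zero_of_forall_map_eq_zero_aux {ι : Type u} [Preorder ι] [IsDirected ι (· ≤ ·)] [Nonempty ι]
    (p : ℕ) [Fact p.Prime] {k₀ F : Type u} [Field k₀] [Field F] [Algebra k₀ F] [CharP F p]
    (hk₀ : ∀ c : k₀, ∃ n : ℕ, (n : k₀) = c)
    (k : ι → IntermediateField k₀ F) (hk : Antitone k) (hpow : ∀ i (y : F), y ^ p ∈ k i)
    (hinf : ∀ x, (∀ i, x ∈ k i) → ∃ y, y ^ p = x) (ω : Ω[F⁄ℤ])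
    (hω : ∀ i, KaehlerDifferential.map ℤ (k i) F F ω = 0) : ω = 0 := by
  have hinf' : (⨅ i, k i ⊔ IntermediateField.adjoin k₀ (Set.range fun y : F => y ^ p)) =
      IntermediateField.adjoin k₀ (Set.range fun y : F => y ^ p) := by
    refine le_antisymm (fun x hx => ?_) (le_iInf fun i => le_sup_right)
    rw [← SetLike.mem_coe, IntermediateField.coe_iInf, Set.mem_iInter] at hx
    obtain ⟨y, rfl⟩ := hinf x fun i => by
      have hle : IntermediateField.adjoin k₀ (Set.range fun y : F => y ^ p) ≤ k i :=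
        IntermediateField.adjoin_le_iff.mpr (by rintro _ ⟨y, rfl⟩; exact hpow i y)
      have := hx i
      rwa [SetLike.mem_coe, sup_eq_left.mpr hle] at this
    exact IntermediateField.subset_adjoin _ _ ⟨y, rfl⟩
  have hmap : ∀ (i : ι) (η : Ω[F⁄ℤ]), KaehlerDifferential.map k₀ (k i) F F (KaehlerDifferential.map ℤ k₀ F F η) =
      KaehlerDifferential.map ℤ (k i) F F η := fun i η => by
    induction (KaehlerDifferential.span_range_derivation ℤ F).ge (Submodule.mem_top (x := η))
      using Submodule.span_induction with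
    | mem y hy => obtain ⟨a, rfl⟩ := hy; simp
    | zero => simp
    | add a b _ _ ha hb => rw [map_add, map_add, map_add, ha, hb]
    | smul c x _ hx => rw [LinearMap.map_smul, LinearMap.map_smul, LinearMap.map_smul, hx]
  have h0 : KaehlerDifferential.map ℤ k₀ F F ω = 0 :=
    (S2475.result p k hk).mp hinf' _ fun i => (hmap i ω).trans (hω i)
  obtain ⟨y, rfl⟩ := (exact_mapBaseChange_map ℤ k₀ F ω).mp h0
  clear h0 hω
  induction y with
  | zero => exact map_zero _
  | add a b ha hb => rw [map_add, ha, hb, add_zero]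
  | tmul l η =>
    rw [mapBaseChange_tmul]
    suffices KaehlerDifferential.map ℤ ℤ k₀ F η = 0 by rw [this, smul_zero]
    induction (KaehlerDifferential.span_range_derivation ℤ k₀).ge (Submodule.mem_top (x := η))
      using Submodule.span_induction with
    | mem y hy =>
      obtain ⟨c, rfl⟩ := hy
      obtain ⟨n, rfl⟩ := hk₀ c
      rw [Derivation.map_natCast, map_zero]
    | zero => exact map_zero _
    | add a b _ _ ha hb => rw [map_add, ha, hb, add_zero]
    | smul c x _ hx => rw [LinearMap.map_smul, hx, smul_zero]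

variable {K : Type u} [Field K] {p : ℕ} [Fact p.Prime] [CharP K p] (db : DualBasis p K)
  {σ : Type} [Fintype σ] (L : Type u) [Field L] [Algebra (MvPowerSeries σ K) L]

/-- Evaluation of differentials on the derivations `dder db S`, with values in `L`. -/
noncomputable def phi (S : Finset db.ι₀) :
    L ⊗[MvPowerSeries σ K] Ω[MvPowerSeries σ K⁄ℤ] →ₗ[L] (S ⊕ σ → L) :=
  LinearMap.pi fun t =>
    ((Algebra.linearMap (MvPowerSeries σ K) L).comp (dder db S t).liftKaehlerDifferential).liftBaseChange L

theorem phi_tmul (S : Finset db.ι₀) (l : L) (a : MvPowerSeries σ K) (t : S ⊕ σ) :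
    phi db L S (l ⊗ₜ D ℤ _ a) t = l * algebraMap _ L (dder db S t a) := by
  rw [phi, LinearMap.pi_apply, LinearMap.liftBaseChange_tmul, LinearMap.comp_apply,
    Derivation.liftKaehlerDifferential_comp_D, smul_eq_mul]
  rfl

/-- The elements dual to the derivations `dder db S`. -/
noncomputable def gen (S : Finset db.ι₀) : S ⊕ σ → MvPowerSeries σ K :=
  Sum.elim (fun i => C (db.b i)) X

theorem dder_gen (S : Finset db.ι₀) (t t' : S ⊕ σ) : dder db S t (gen db S t') = if t = t' then 1 else 0 := by
  rcases t' with i | j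
  · rw [gen, Sum.elim_inl]
    convert dder_C_b db S t i
  · rw [gen, Sum.elim_inr]
    convert dder_X db S t j

theorem phi_gen (S : Finset db.ι₀) (l : L) (t' : S ⊕ σ) :
    phi db L S (l ⊗ₜ D ℤ _ (gen db S t')) = Pi.single t' l := by
  funext t
  rw [phi_tmul, dder_gen, Pi.single_apply]
  split_ifs <;> simp

theorem phi_surjective (S : Finset db.ι₀) : Function.Surjective (phi (σ := σ) db L S) := fun c =>
  ⟨∑ t, c t ⊗ₜ D ℤ _ (gen db S t), by
    rw [map_sum]
    simp_rw [phi_gen]
    exact Finset.univ_sum_single c⟩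

/-- The set `{1 ⊗ dq : q ∈ K_S[[T^p]]}`. -/
def dSub (S : Finset db.ι₀) : Set (L ⊗[MvPowerSeries σ K] Ω[MvPowerSeries σ K⁄ℤ]) :=
  (fun q => (1 : L) ⊗ₜ D ℤ _ q) '' (frobSub (σ := σ) db S : Set (MvPowerSeries σ K))

theorem ker_phi (S : Finset db.ι₀) : LinearMap.ker (phi (σ := σ) db L S) = Submodule.span L (dSub db L S) := by
  refine le_antisymm (fun v hv => ?_) (Submodule.span_le.mpr ?_)
  · let g : S ⊕ σ → L ⊗[MvPowerSeries σ K] Ω[MvPowerSeries σ K⁄ℤ] := fun t => (1 : L) ⊗ₜ D ℤ _ (gen db S t)
    set N := Submodule.span L (dSub (σ := σ) db L S) ⊔ Submodule.span L (Set.range g) with hN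
    have hgen : ∀ a : MvPowerSeries σ K, (1 : L) ⊗ₜ D ℤ _ a ∈ N := by
      intro a
      have ha : a ∈ Subring.closure ((frobSub (σ := σ) db S : Set (MvPowerSeries σ K)) ∪
          (Set.range (fun i : S => (C (db.b i) : MvPowerSeries σ K)) ∪ Set.range X)) := by
        rw [closure_frobSub_eq_top]; trivial
      induction ha using Subring.closure_induction with
      | mem z hz =>
        rcases hz with hz | ⟨i, rfl⟩ | ⟨j, rfl⟩
        · exact Submodule.mem_sup_left (Submodule.subset_span ⟨z, hz, rfl⟩)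
        · exact Submodule.mem_sup_right (Submodule.subset_span ⟨Sum.inl i, rfl⟩)
        · exact Submodule.mem_sup_right (Submodule.subset_span ⟨Sum.inr j, rfl⟩)
      | zero => simp
      | one => simp
      | add x y _ _ hx hy => rw [map_add, tmul_add]; exact add_mem hx hy
      | neg x _ hx => rw [map_neg, tmul_neg]; exact neg_mem hx
      | mul x y _ _ hx hy =>
        rw [Derivation.leibniz, tmul_add]
        refine add_mem ?_ ?_
        · rw [tmul_smul, ← algebraMap_smul L]; exact N.smul_mem _ hy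
        · rw [tmul_smul, ← algebraMap_smul L]; exact N.smul_mem _ hx
    have htop : ∀ w, w ∈ N := by
      intro w
      induction w with
      | zero => exact zero_mem _
      | add x y hx hy => exact add_mem hx hy
      | tmul l ω =>
        induction (KaehlerDifferential.span_range_derivation ℤ (MvPowerSeries σ K)).ge (Submodule.mem_top (x := ω))
          using Submodule.span_induction generalizing l with
        | mem y hy =>
          obtain ⟨a, rfl⟩ := hy
          rw [show l ⊗ₜ[MvPowerSeries σ K] D ℤ _ a = l • ((1 : L) ⊗ₜ[MvPowerSeries σ K] D ℤ _ a) by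
            rw [smul_tmul', smul_eq_mul, mul_one]]
          exact N.smul_mem _ (hgen a)
        | zero => rw [tmul_zero]; exact zero_mem _
        | add x y _ _ hx hy => rw [tmul_add]; exact add_mem (hx l) (hy l)
        | smul c x _ hx => rw [← smul_tmul]; exact hx _
    obtain ⟨w, hw, u, hu, rfl⟩ := Submodule.mem_sup.mp (htop v)
    obtain ⟨c, rfl⟩ := (Submodule.mem_span_range_iff_exists_fun L).mp hu
    have hw0 : phi db L S w = 0 := by
      refine (Submodule.span_le (p := LinearMap.ker (phi db L S))).mpr ?_ hw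
      rintro _ ⟨q, hq, rfl⟩
      exact funext fun t => by rw [phi_tmul, hq t, map_zero, mul_zero]; rfl
    rw [LinearMap.mem_ker, map_add, hw0, zero_add, map_sum] at hv
    have hc : c = 0 := by
      rw [← Finset.univ_sum_single c]
      refine Eq.trans (Finset.sum_congr rfl fun t _ => ?_) hv
      rw [map_smul, phi_gen, ← Pi.single_smul, smul_eq_mul, mul_one]
    simpa [hc] using hw
  · rintro _ ⟨q, hq, rfl⟩
    exact funext fun t => by rw [phi_tmul, hq t, map_zero, mul_zero]; rfl

theorem ker_phi_anti : Antitone fun S => LinearMap.ker (phi (σ := σ) db L S) := fun S S' h => by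
  show LinearMap.ker (phi (σ := σ) db L S') ≤ LinearMap.ker (phi (σ := σ) db L S)
  rw [ker_phi, ker_phi]
  exact Submodule.span_mono (Set.image_mono (frobSub_anti db h))

section fraction

variable (F : Type u) [Field F] [Algebra (MvPowerSeries σ K) F] [IsFractionRing (MvPowerSeries σ K) F]

/-- `F ⊗ Ω_P ≅ Ω_F` for the fraction field `F`. -/
noncomputable def fracEquiv : F ⊗[MvPowerSeries σ K] Ω[MvPowerSeries σ K⁄ℤ] ≃ₗ[F] Ω[F⁄ℤ] :=
  have := Algebra.FormallyEtale.of_isLocalization (Rₘ := F) (nonZeroDivisors (MvPowerSeries σ K))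
  KaehlerDifferential.tensorKaehlerEquivOfFormallyEtale ℤ (MvPowerSeries σ K) F

theorem fracEquiv_apply (v : F ⊗[MvPowerSeries σ K] Ω[MvPowerSeries σ K⁄ℤ]) :
    fracEquiv F v = mapBaseChange ℤ (MvPowerSeries σ K) F v := rfl

theorem fracEquiv_symm_D (a : MvPowerSeries σ K) :
    (fracEquiv F).symm (D ℤ F (algebraMap _ F a)) = 1 ⊗ₜ D ℤ _ a := by
  rw [LinearEquiv.symm_apply_eq, fracEquiv_apply, mapBaseChange_tmul, one_smul, map_D]

/-- The derivations of `F` extending `dder db S`. -/
noncomputable def fracDer (S : Finset db.ι₀) : Derivation ℤ F (S ⊕ σ → F) :=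
  ((phi db F S).comp (fracEquiv F).symm.toLinearMap).compDer (D ℤ F)

theorem fracDer_algebraMap (S : Finset db.ι₀) (a : MvPowerSeries σ K) (t : S ⊕ σ) :
    fracDer db F S (algebraMap _ F a) t = algebraMap _ F (dder db S t a) := by
  show phi db F S ((fracEquiv F).symm (D ℤ F (algebraMap _ F a))) t = _
  rw [fracEquiv_symm_D, phi_tmul, one_mul]

theorem iInf_ker_phi_fraction : ⨅ S, LinearMap.ker (phi (σ := σ) db F S) = ⊥ := by
  refine le_bot_iff.mp fun v hv => ?_
  rw [Submodule.mem_iInf] at hv
  have hinj := IsFractionRing.injective (MvPowerSeries σ K) F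
  have : CharP (MvPowerSeries σ K) p :=
    charP_of_injective_ringHom (MvPowerSeries.C_injective (σ := σ) (R := K)) p
  have hpF : CharP F p := charP_of_injective_algebraMap (R := MvPowerSeries σ K) hinj p
  let k₀ := (⊥ : Subfield F)
  have hk₀ : ∀ c : k₀, ∃ n : ℕ, (n : k₀) = c := by
    let f : ZMod p →+* F := ZMod.castHom dvd_rfl F
    rintro ⟨c, hc⟩
    obtain ⟨z, rfl⟩ := (bot_le : (⊥ : Subfield F) ≤ f.fieldRange) hc
    refine ⟨z.val, Subtype.ext ((map_natCast (Subfield.subtype k₀) z.val).trans ?_)⟩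
    show (z.val : F) = f z
    rw [← map_natCast f, ZMod.natCast_zmod_val]
  have hpow : ∀ S (y : F), fracDer (σ := σ) db F S (y ^ p) = 0 := fun S y => by
    rw [Derivation.leibniz_pow, ← Nat.cast_smul_eq_nsmul F, CharP.cast_eq_zero, zero_smul]
  let k : Finset db.ι₀ → IntermediateField k₀ F := fun S =>
    { carrier := {x | fracDer (σ := σ) db F S x = 0}
      mul_mem' := fun {a b} (ha : _ = 0) (hb : _ = 0) => show _ = 0 by
        rw [Derivation.leibniz, ha, hb, smul_zero, smul_zero, add_zero]
      one_mem' := (fracDer (σ := σ) db F S).map_one_eq_zero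
      add_mem' := fun {a b} (ha : _ = 0) (hb : _ = 0) => show _ = 0 by rw [map_add, ha, hb, add_zero]
      zero_mem' := map_zero _
      algebraMap_mem' := fun c => show _ = 0 by
        obtain ⟨n, rfl⟩ := hk₀ c
        rw [map_natCast, Derivation.map_natCast]
      inv_mem' := fun a (ha : _ = 0) => show _ = 0 by rw [Derivation.leibniz_inv, ha, smul_zero] }
  have hkmem : ∀ S x, x ∈ k S ↔ fracDer (σ := σ) db F S x = 0 := fun S x => Iff.rfl
  clear_value k
  have hk : Antitone k := by
    intro S S' h x hx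
    rw [hkmem] at hx ⊢
    have h1 : (fracEquiv F).symm (D ℤ F x) ∈ LinearMap.ker (phi db F S') := hx
    exact ker_phi_anti db F h h1
  rw [Submodule.mem_bot]
  refine (fracEquiv F).map_eq_zero_iff.mp (eq_zero_of_forall_map_eq_zero_aux p hk₀ k hk
    (fun S y => (hkmem S _).mpr (hpow S y)) (fun x hx => ?_) _ fun S => ?_)
  · obtain ⟨h, g, hg, hhg⟩ := exists_mul_pow_eq (p := p) (σ := σ) (K := K) x
    have hmem : ∀ S, h ∈ frobSub db S := fun S t => by
      refine hinj ?_
      rw [map_zero, ← fracDer_algebraMap db F S h t, ← hhg, Derivation.leibniz, (hkmem S x).mp (hx S), hpow,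
        smul_zero, smul_zero, add_zero]
      rfl
    obtain ⟨g', hg'⟩ := exists_pow_eq_of_forall_mem db hmem
    exact eq_pow_of_mul hg hg' hhg
  · have hmem : v ∈ Submodule.span F (dSub (σ := σ) db F S) := (ker_phi db F S).le (hv S)
    clear hv
    induction hmem using Submodule.span_induction with
    | mem y hy =>
      obtain ⟨q, hq, rfl⟩ := hy
      have hqk : algebraMap _ F q ∈ k S :=
        (hkmem S _).mpr (funext fun t => by rw [fracDer_algebraMap, hq t, map_zero]; rfl)
      rw [fracEquiv_apply, mapBaseChange_tmul, one_smul, map_D, map_D]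
      simp only [Algebra.algebraMap_self_apply]
      exact Derivation.map_algebraMap (D (k S) F) (⟨_, hqk⟩ : k S)
    | zero => simp
    | add a b _ _ ha hb => rw [map_add, map_add, ha, hb, add_zero]
    | smul c x _ hx => rw [map_smul, LinearMap.map_smul, hx, smul_zero]

variable {L} [Algebra F L] [IsScalarTower (MvPowerSeries σ K) F L]

include F in
theorem iInf_ker_phi : ⨅ S, LinearMap.ker (phi (σ := σ) db L S) = ⊥ := by
  let c := AlgebraTensorModule.cancelBaseChange (MvPowerSeries σ K) F L L Ω[MvPowerSeries σ K⁄ℤ]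
  have h := iInf_ker_eq_bot_of_tmul (L := L) (fun S => phi (σ := σ) db F S)
    (fun S => (phi db L S).comp c.toLinearMap) (fun S l z t => by
      induction z with
      | zero => simp
      | add a b ha hb =>
        rw [tmul_add, map_add, Pi.add_apply, ha, hb, map_add, Pi.add_apply, map_add, mul_add]
      | tmul f ω =>
        show phi db L S (c (l ⊗ₜ (f ⊗ₜ ω))) t = _
        rw [AlgebraTensorModule.cancelBaseChange_tmul, Algebra.smul_def, phi, phi, LinearMap.pi_apply,
          LinearMap.pi_apply, LinearMap.liftBaseChange_tmul, LinearMap.liftBaseChange_tmul, smul_eq_mul,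
          smul_eq_mul, map_mul, LinearMap.comp_apply, LinearMap.comp_apply, Algebra.linearMap_apply,
          Algebra.linearMap_apply, ← IsScalarTower.algebraMap_apply]
        ring) (iInf_ker_phi_fraction db F)
  refine le_bot_iff.mp fun v hv => ?_
  rw [Submodule.mem_iInf] at hv
  have h1 : c.symm v ∈ ⨅ S, LinearMap.ker ((phi (σ := σ) db L S).comp c.toLinearMap) :=
    (Submodule.mem_iInf _).mpr fun S => by
      rw [LinearMap.mem_ker, LinearMap.comp_apply, LinearEquiv.coe_toLinearMap, c.apply_symm_apply]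
      exact hv S
  rw [h, Submodule.mem_bot, LinearEquiv.map_eq_zero_iff] at h1
  exact h1 ▸ Submodule.zero_mem _

variable [Module.Finite F L]

include F in
/-- The imperfection of `L` over the power series ring. -/
theorem ker_mapBaseChange_finite_and_finrank :
    Module.Finite L (LinearMap.ker (mapBaseChange ℤ (MvPowerSeries σ K) L)) ∧
    Module.Finite L (Ω[L⁄ℤ] ⧸ LinearMap.range (mapBaseChange ℤ (MvPowerSeries σ K) L)) ∧
    Module.finrank L (Ω[L⁄ℤ] ⧸ LinearMap.range (mapBaseChange ℤ (MvPowerSeries σ K) L)) =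
      Module.finrank L (LinearMap.ker (mapBaseChange ℤ (MvPowerSeries σ K) L)) := by
  let e : L ⊗[MvPowerSeries σ K] Ω[MvPowerSeries σ K⁄ℤ] ≃ₗ[L] L ⊗[F] Ω[F⁄ℤ] :=
    (AlgebraTensorModule.cancelBaseChange (MvPowerSeries σ K) F L L Ω[MvPowerSeries σ K⁄ℤ]).symm ≪≫ₗ
      (fracEquiv F).baseChange F L _ _
  have hcomp : mapBaseChange ℤ (MvPowerSeries σ K) L = (mapBaseChange ℤ F L) ∘ₗ e.toLinearMap := by
    refine TensorProduct.AlgebraTensorModule.curry_injective (LinearMap.ext_ring
      (LinearMap.ext_on (KaehlerDifferential.span_range_derivation ℤ _) ?_))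
    rintro _ ⟨a, rfl⟩
    simp [e, fracEquiv_apply, ← IsScalarTower.algebraMap_apply]
  have hidx := (EGA41Lib.fieldIdx_iff F L 0).mp EGA41Lib.fieldIdx_of_finite
  rw [hcomp]
  exact (EGA41Lib.HasIndex.comp_linearEquiv hidx e).elim fun hk h => h.elim fun hc hr =>
    ⟨hk, hc, by omega⟩

include F in
theorem exists_span_D_finrank_le :
    ∃ S₀ : Finset db.ι₀, ∀ S, S₀ ⊆ S →
      Module.Finite L (Ω[L⁄ℤ] ⧸ Submodule.span L
        ((fun q => D ℤ L (algebraMap (MvPowerSeries σ K) L q)) '' frobSub (σ := σ) db S)) ∧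
      Module.finrank L (Ω[L⁄ℤ] ⧸ Submodule.span L
        ((fun q => D ℤ L (algebraMap (MvPowerSeries σ K) L q)) '' frobSub (σ := σ) db S)) ≤
          S.card + Fintype.card σ := by
  let τ := mapBaseChange ℤ (MvPowerSeries σ K) L
  obtain ⟨hker, hcok, hrk⟩ := ker_mapBaseChange_finite_and_finrank (σ := σ) (K := K) F (L := L)
  obtain ⟨S₀, hS₀⟩ := exists_inf_eq_bot (LinearMap.ker τ) _ (ker_phi_anti (σ := σ) db L) (iInf_ker_phi db F)
  refine ⟨S₀, fun S hS => ?_⟩
  set Z := Submodule.span L ((fun q => D ℤ L (algebraMap (MvPowerSeries σ K) L q)) '' frobSub (σ := σ) db S)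
  have hZ : (LinearMap.ker (phi (σ := σ) db L S)).map τ = Z := by
    rw [ker_phi, Submodule.map_span, dSub, Set.image_image]
    congr 1
    refine Set.image_congr fun q _ => ?_
    show mapBaseChange ℤ (MvPowerSeries σ K) L (1 ⊗ₜ D ℤ _ q) = _
    rw [mapBaseChange_tmul, one_smul, map_D]
  have hZle : Z ≤ LinearMap.range τ := hZ.ge.trans (LinearMap.map_le_range)
  obtain ⟨s, hs⟩ := (phi (σ := σ) db L S).exists_rightInverse_of_surjective
    (LinearMap.range_eq_top.mpr (phi_surjective db L S))
  let h := Z.mkQ.comp (τ.comp s)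
  have hh : ∀ x, h (phi db L S x) = Z.mkQ (τ x) := fun x => by
    refine (Submodule.Quotient.eq Z).mpr ?_
    rw [LinearMap.comp_apply, ← map_sub, ← hZ]
    refine Submodule.mem_map_of_mem ?_
    rw [LinearMap.mem_ker, map_sub, ← LinearMap.comp_apply (g := s), hs, LinearMap.id_apply, sub_self]
  have hrange : LinearMap.range h = (LinearMap.range τ).map Z.mkQ := by
    refine le_antisymm ?_ ?_
    · rintro _ ⟨c, rfl⟩
      exact Submodule.mem_map_of_mem ⟨_, rfl⟩
    · rintro _ ⟨_, ⟨x, rfl⟩, rfl⟩
      exact ⟨_, hh x⟩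
  have hinj : Function.Injective ((phi db L S).domRestrict (LinearMap.ker τ)) := by
    refine (injective_iff_map_eq_zero _).2 fun x hx => Subtype.ext ?_
    have : (x : L ⊗[MvPowerSeries σ K] Ω[MvPowerSeries σ K⁄ℤ]) ∈ LinearMap.ker τ ⊓ LinearMap.ker (phi db L S) :=
      ⟨x.2, hx⟩
    rw [hS₀ S hS] at this
    exact this
  have hkerh : Module.finrank L (LinearMap.ker τ) ≤ Module.finrank L (LinearMap.ker h) := by
    refine LinearMap.finrank_le_finrank_of_injective
      (f := LinearMap.codRestrict _ ((phi db L S).domRestrict (LinearMap.ker τ)) fun x => ?_)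
      (fun a b hab => hinj (congrArg Subtype.val hab))
    rw [LinearMap.mem_ker, LinearMap.domRestrict_apply, hh, LinearMap.mem_ker.mp x.2, map_zero]
  let e := Submodule.quotientQuotientEquivQuotient Z (LinearMap.range τ) hZle
  have hsub : Module.Finite L ↥((LinearMap.range τ).map Z.mkQ) := hrange ▸ inferInstance
  have hquot : Module.Finite L ((Ω[L⁄ℤ] ⧸ Z) ⧸ (LinearMap.range τ).map Z.mkQ) := Module.Finite.equiv e.symm
  have hfin : Module.Finite L (Ω[L⁄ℤ] ⧸ Z) :=
    Module.Finite.of_submodule_quotient ((LinearMap.range τ).map Z.mkQ)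
  refine ⟨hfin, ?_⟩
  have hrk' : Module.finrank L (Ω[L⁄ℤ] ⧸ LinearMap.range τ) = Module.finrank L (LinearMap.ker τ) := hrk
  have r1 := h.finrank_range_add_finrank_ker
  rw [Module.finrank_pi, Fintype.card_sum, Fintype.card_coe, hrange] at r1
  have r2 := Submodule.finrank_quotient_add_finrank ((LinearMap.range τ).map Z.mkQ)
  rw [e.finrank_eq] at r2
  omega

include F in
theorem iInf_span_D :
    ⨅ S : Finset db.ι₀, Submodule.span L
      ((fun q => D ℤ L (algebraMap (MvPowerSeries σ K) L q)) '' frobSub (σ := σ) db S) = ⊥ := by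
  have := (ker_mapBaseChange_finite_and_finrank (σ := σ) (K := K) F (L := L)).1
  rw [← iInf_map_eq_bot (mapBaseChange ℤ (MvPowerSeries σ K) L) _ (ker_phi_anti (σ := σ) db L) (iInf_ker_phi db F)]
  refine iInf_congr fun S => ?_
  rw [ker_phi, Submodule.map_span, dSub, Set.image_image]
  congr 1
  refine Set.image_congr fun q _ => ?_
  rw [mapBaseChange_tmul, one_smul, map_D]

end fraction

end Groth.Agent.NagataJac
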