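import Groth.Agent.NagataJac.JacSep
import Groth.Agent.ComplDeriv.Existence
import Mathlib.LinearAlgebra.Matrix.Adjugate

/-!
# Derivations of `K[[T]]` with a prescribed Jacobian matrix
-/

universe u

open IsLocalRing TensorProduct KaehlerDifferential
open scoped Classical

-- use the canonical `ℤ`-algebra structure on power series rings
attribute [local instance 10000] Ring.toIntAlgebra
set_option linter.unusedSectionVars false

namespace Groth.Agent.NagataJac

variable {K : Type u} [Field K] {p : ℕ} [Fact p.Prime] [CharP K p] (db : DualBasis p K) {r : ℕ}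

include db in
theorem exists_dual_derivations (P : Ideal (MvPowerSeries (Fin r) K)) [P.IsPrime] {m : ℕ}
    (g : Fin m → MvPowerSeries (Fin r) K)
    (hind : LinearIndependent P.ResidueField fun j => (1 : P.ResidueField) ⊗ₜ[MvPowerSeries (Fin r) K]
      D ℤ (MvPowerSeries (Fin r) K) (g j)) :
    ∃ (u : MvPowerSeries (Fin r) K) (D : Fin m → Derivation ℤ (MvPowerSeries (Fin r) K) (MvPowerSeries (Fin r) K)),
      u ∉ P ∧ ∀ i j, D i (g j) = if i = j then u else 0 := by
  let A := MvPowerSeries (Fin r) K
  let L := P.ResidueField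
  set v := fun j => (1 : L) ⊗ₜ[A] KaehlerDifferential.D ℤ A (g j) with hv
  have hfin : Module.Finite L (Submodule.span L (Set.range v)) :=
    Module.Finite.span_of_finite _ (Set.finite_range _)
  obtain ⟨S, hS⟩ := exists_inf_eq_bot (Submodule.span L (Set.range v)) _ (ker_phi_anti (σ := Fin r) db L)
    (iInf_ker_phi_residueField db P)
  let M := Fintype.linearCombination L fun j => phi (σ := Fin r) db L S (v j)
  have hM : LinearMap.ker M = ⊥ := by
    refine LinearMap.ker_eq_bot'.mpr fun c hc => ?_
    have hmem : ∑ j, c j • v j ∈ Submodule.span L (Set.range v) ⊓ LinearMap.ker (phi (σ := Fin r) db L S) := by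
      refine ⟨Submodule.sum_mem _ fun j _ => Submodule.smul_mem _ _ (Submodule.subset_span ⟨j, rfl⟩), ?_⟩
      rw [SetLike.mem_coe, LinearMap.mem_ker, map_sum]
      simp_rw [map_smul]
      exact hc
    rw [hS S le_rfl, Submodule.mem_bot] at hmem
    exact funext (Fintype.linearIndependent_iff.mp hind c hmem)
  obtain ⟨ψ, hψ⟩ := M.exists_leftInverse_of_injective hM
  let cc : Fin m → S ⊕ Fin r → L := fun i t => ψ (Pi.single t 1) i
  have hcc : ∀ i j, ∑ t, cc i t * algebraMap A L (dder db S t (g j)) = if i = j then 1 else 0 := by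
    intro i j
    have h1 : ψ (phi (σ := Fin r) db L S (v j)) = Pi.single j 1 := by
      have := LinearMap.congr_fun hψ (Pi.single j (1 : L))
      simpa [M, Fintype.linearCombination_apply_single] using this
    rw [← Pi.single_apply, ← h1, pi_eq_sum_univ' (phi (σ := Fin r) db L S (v j)), map_sum, Finset.sum_apply]
    refine Finset.sum_congr rfl fun t _ => ?_
    rw [map_smul, Pi.smul_apply, smul_eq_mul, mul_comm, hv, phi_tmul, one_mul]
  obtain ⟨⟨u₀, hu₀⟩, hint⟩ := IsLocalization.exist_integer_multiples (nonZeroDivisors (A ⧸ P))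
    (Finset.univ : Finset (Fin m × (S ⊕ Fin r))) (fun it => cc it.1 it.2)
  choose a ha using fun it => hint it (Finset.mem_univ it)
  choose a' ha' using fun it => Ideal.Quotient.mk_surjective (I := P) (a it)
  let D₀ : Fin m → Derivation ℤ A A := fun i =>
    ((∑ t, a' (i, t) • (dder db S t).liftKaehlerDifferential : Ω[A⁄ℤ] →ₗ[A] A)).compDer (KaehlerDifferential.D ℤ A)
  let N : Matrix (Fin m) (Fin m) A := Matrix.of fun i j => D₀ i (g j)
  have hN : (algebraMap A L).mapMatrix N = algebraMap (A ⧸ P) L u₀ • (1 : Matrix (Fin m) (Fin m) L) := by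
    ext i j
    rw [RingHom.mapMatrix_apply, Matrix.map_apply, Matrix.smul_apply, Matrix.one_apply, smul_eq_mul, ← hcc i j,
      Finset.mul_sum]
    have h0 : N i j = ∑ t, a' (i, t) * dder db S t (g j) := by
      show ((∑ t, a' (i, t) • (dder db S t).liftKaehlerDifferential : Ω[A⁄ℤ] →ₗ[A] A))
        (KaehlerDifferential.D ℤ A (g j)) = _
      rw [LinearMap.sum_apply]
      refine Finset.sum_congr rfl fun t _ => ?_
      rw [LinearMap.smul_apply, Derivation.liftKaehlerDifferential_comp_D, smul_eq_mul]
    rw [h0, map_sum]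
    refine Finset.sum_congr rfl fun t _ => ?_
    rw [map_mul, IsScalarTower.algebraMap_apply A (A ⧸ P) L (a' (i, t)), Ideal.Quotient.algebraMap_eq, ha', ha,
      Algebra.smul_def, mul_assoc]
  refine ⟨N.det, fun i => ((∑ k, N.adjugate i k • (D₀ k).liftKaehlerDifferential : Ω[A⁄ℤ] →ₗ[A] A)).compDer
    (KaehlerDifferential.D ℤ A), fun hdet => ?_, fun i j => ?_⟩
  · have h0 : algebraMap A L N.det = 0 := Ideal.algebraMap_residueField_eq_zero.mpr hdet
    rw [RingHom.map_det, hN, Matrix.det_smul, Matrix.det_one, mul_one] at h0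
    exact IsFractionRing.to_map_ne_zero_of_mem_nonZeroDivisors hu₀ (eq_zero_of_pow_eq_zero h0)
  · show ((∑ k, N.adjugate i k • (D₀ k).liftKaehlerDifferential : Ω[A⁄ℤ] →ₗ[A] A))
        (KaehlerDifferential.D ℤ A (g j)) = _
    rw [LinearMap.sum_apply]
    have h1 := congrFun (congrFun N.adjugate_mul i) j
    rw [Matrix.mul_apply, Matrix.smul_apply, Matrix.one_apply, smul_eq_mul, mul_ite, mul_one, mul_zero] at h1
    rw [← h1]
    refine Finset.sum_congr rfl fun k _ => ?_
    rw [LinearMap.smul_apply, Derivation.liftKaehlerDifferential_comp_D, smul_eq_mul]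
    rfl

include db in
theorem exists_dual_derivations_of_ringEquiv {A : Type u} [CommRing A] (e : A ≃+* MvPowerSeries (Fin r) K)
    (P : Ideal A) [P.IsPrime] {m : ℕ} (g : Fin m → A) {M : Type u} [Field M] (φ : A →+* M)
    (hker : RingHom.ker φ = P) (δ : Fin m → A →+ M)
    (hleib : ∀ i a b, δ i (a * b) = φ a * δ i b + φ b * δ i a) (hdual : ∀ i j, δ i (g j) = if i = j then 1 else 0) :
    ∃ (u : A) (D : Fin m → Derivation ℤ A A), u ∉ P ∧ ∀ i j, D i (g j) = if i = j then u else 0 := by
  let A' := MvPowerSeries (Fin r) K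
  let P' : Ideal A' := P.comap e.symm.toRingHom
  let φ' : A' →+* M := φ.comp e.symm.toRingHom
  have hker' : ∀ x, φ' x = 0 ↔ x ∈ P' := fun x => by
    rw [Ideal.mem_comap, ← hker, RingHom.mem_ker]; rfl
  let _ : Algebra A' M := φ'.toAlgebra
  let δ' : Fin m → Derivation ℤ A' M := fun i =>
    ComplDeriv.intDerivation ((δ i).comp e.symm.toRingHom.toAddMonoidHom) fun x y => by
      show δ i (e.symm (x * y)) = φ' x * δ i (e.symm y) + φ' y * δ i (e.symm x)
      rw [map_mul, hleib]
      rfl
  let L := P'.ResidueField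
  let ψ₀ : A' ⧸ P' →+* M := Ideal.Quotient.lift P' φ' fun x hx => (hker' x).mpr hx
  have hψ₀ : Function.Injective ψ₀ := (injective_iff_map_eq_zero ψ₀).mpr fun x hx => by
    obtain ⟨x, rfl⟩ := Ideal.Quotient.mk_surjective x
    exact Ideal.Quotient.eq_zero_iff_mem.mpr ((hker' x).mp hx)
  let ψ : L →+* M := IsFractionRing.lift (K := L) hψ₀
  let _ : Algebra L M := ψ.toAlgebra
  have : IsScalarTower A' L M := IsScalarTower.of_algebraMap_eq fun x => by
    show φ' x = ψ (algebraMap A' L x)
    rw [IsScalarTower.algebraMap_apply A' (A' ⧸ P') L, IsFractionRing.lift_algebraMap]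
    rfl
  have hind : LinearIndependent L fun j => (1 : L) ⊗ₜ[A'] KaehlerDifferential.D ℤ A' (e (g j)) := by
    rw [Fintype.linearIndependent_iff]
    intro c hc i
    refine ψ.injective ?_
    have h1 := congrArg ((δ' i).liftKaehlerDifferential.liftBaseChange L) hc
    rw [map_zero, map_sum] at h1
    rw [map_zero, ← h1, Finset.sum_eq_single i]
    · rw [LinearMap.map_smul, LinearMap.liftBaseChange_tmul, Derivation.liftKaehlerDifferential_comp_D, one_smul,
        Algebra.smul_def]
      show ψ (c i) = ψ (c i) * δ i (e.symm (e (g i)))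
      rw [e.symm_apply_apply, hdual, if_pos rfl, mul_one]
    · intro j _ hji
      rw [LinearMap.map_smul, LinearMap.liftBaseChange_tmul, Derivation.liftKaehlerDifferential_comp_D, one_smul,
        Algebra.smul_def]
      show ψ (c j) * δ i (e.symm (e (g j))) = 0
      rw [e.symm_apply_apply, hdual, if_neg (Ne.symm hji), mul_zero]
    · exact fun h => absurd (Finset.mem_univ i) h
  obtain ⟨u, D', hu, hD⟩ := exists_dual_derivations db P' (fun j => e (g j)) hind
  refine ⟨e.symm u, fun i => ComplDeriv.intDerivation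
    ((e.symm.toRingHom.toAddMonoidHom.comp (D' i).toLinearMap.toAddMonoidHom).comp e.toRingHom.toAddMonoidHom)
    fun x y => ?_, hu, fun i j => ?_⟩
  · show e.symm (D' i (e (x * y))) = x • e.symm (D' i (e y)) + y • e.symm (D' i (e x))
    rw [map_mul, Derivation.leibniz, smul_eq_mul, smul_eq_mul, map_add, map_mul, map_mul, e.symm_apply_apply,
      e.symm_apply_apply, smul_eq_mul, smul_eq_mul]
  · show e.symm (D' i (e (g j))) = _
    rw [hD]
    split_ifs <;> simp

end Groth.Agent.NagataJac
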