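import Groth.Agent.NagataJac.FrobSub
import Mathlib.RingTheory.Localization.FractionRing
import Mathlib.Algebra.Field.Subfield.Basic

/-!
# The intersection of the fields `Frac K_S[[T^p]]`
-/

universe u

open MvPowerSeries (coeff C X)

-- use the canonical `ℤ`-algebra structure on power series rings
attribute [local instance 10000] Ring.toIntAlgebra
set_option linter.unusedSectionVars false

namespace Groth.Agent.NagataJac

variable {K : Type u} [Field K] {p : ℕ} [Fact p.Prime] [CharP K p] (db : DualBasis p K)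
  {σ : Type} [Finite σ] {F : Type u} [Field F] [Algebra (MvPowerSeries σ K) F]
  [IsFractionRing (MvPowerSeries σ K) F]

theorem frobSub_anti {S S' : Finset db.ι₀} (h : S ⊆ S') : frobSub (σ := σ) db S' ≤ frobSub db S := by
  intro f hf
  rintro (i | j)
  · exact hf (Sum.inl ⟨i, h i.2⟩)
  · exact hf (Sum.inr j)

/-- An element of `P` in the fraction field of `frobSub db S` lies in `frobSub db S`. -/
theorem mem_frobSub_of_mem_closure {S : Finset db.ι₀} {h : MvPowerSeries σ K}
    (hh : algebraMap _ F h ∈ Subfield.closure (algebraMap (MvPowerSeries σ K) F '' frobSub (σ := σ) db S)) :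
    h ∈ frobSub db S := by
  have hcl : Subring.closure (algebraMap (MvPowerSeries σ K) F '' frobSub (σ := σ) db S) =
      (frobSub (σ := σ) db S).map (algebraMap _ F) := by
    rw [← Subring.coe_map, Subring.closure_eq]
  obtain ⟨a, ha, b, hb, hab⟩ := Subfield.mem_closure_iff.mp hh
  rw [hcl] at ha hb
  obtain ⟨a, ha, rfl⟩ := ha
  obtain ⟨b, hb, rfl⟩ := hb
  have hinj := IsFractionRing.injective (MvPowerSeries σ K) F
  by_cases hb0 : b = 0
  · subst hb0
    rw [map_zero, div_zero, eq_comm, ← map_zero (algebraMap (MvPowerSeries σ K) F)] at hab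
    rw [hinj hab]
    exact Subring.zero_mem _
  · rw [div_eq_iff ((map_ne_zero_iff _ hinj).2 hb0), ← map_mul] at hab
    have hab := hinj hab
    intro t
    have := congrArg (dder db S t) hab
    rw [ha t, Derivation.leibniz, hb t, smul_zero, zero_add, smul_eq_mul, eq_comm, mul_eq_zero] at this
    exact this.resolve_left hb0

theorem exists_mul_pow_eq (x : F) : ∃ (h g : MvPowerSeries σ K),
    g ≠ 0 ∧ x * algebraMap _ F g ^ p = algebraMap _ F h := by
  obtain ⟨⟨a, g, hg⟩, hag⟩ := IsLocalization.surj (nonZeroDivisors (MvPowerSeries σ K)) x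
  refine ⟨a * g ^ (p - 1), g, nonZeroDivisors.ne_zero hg, ?_⟩
  have h2 : x * algebraMap _ F g = algebraMap _ F a := hag
  rw [map_mul, map_pow, ← h2, mul_assoc, ← pow_succ', Nat.sub_add_cancel (NeZero.one_le)]

theorem eq_pow_of_mul {g h g' : MvPowerSeries σ K} {x : F} (hg : g ≠ 0) (hh : g' ^ p = h)
    (hx : x * algebraMap _ F g ^ p = algebraMap _ F h) : ∃ y : F, y ^ p = x := by
  refine ⟨algebraMap _ F g' / algebraMap _ F g, ?_⟩
  have hg' : algebraMap (MvPowerSeries σ K) F g ≠ 0 := (map_ne_zero_iff _ (IsFractionRing.injective _ F)).2 hg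
  rw [div_pow, ← map_pow _ g', hh, ← hx, mul_div_cancel_right₀ _ (pow_ne_zero _ hg')]

theorem coe_iInf_closure :
    ((⨅ S : Finset db.ι₀, Subfield.closure (algebraMap (MvPowerSeries σ K) F '' frobSub (σ := σ) db S) :
      Subfield F) : Set F) = Set.range fun x : F => x ^ p := by
  ext x
  rw [SetLike.mem_coe, Subfield.mem_iInf]
  constructor
  · intro hx
    obtain ⟨h, g, hg, hhg⟩ := exists_mul_pow_eq (p := p) (σ := σ) (K := K) x
    have hmem : ∀ S, h ∈ frobSub db S := fun S => by
      refine mem_frobSub_of_mem_closure (F := F) db ?_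
      rw [← hhg]
      exact mul_mem (hx S) (Subfield.subset_closure ⟨g ^ p, pow_mem_frobSub db S g, map_pow _ g p⟩)
    obtain ⟨g', hg'⟩ := exists_pow_eq_of_forall_mem db hmem
    exact eq_pow_of_mul hg hg' hhg
  · rintro ⟨y, rfl⟩ S
    obtain ⟨⟨a, g, hg⟩, hag⟩ := IsLocalization.surj (nonZeroDivisors (MvPowerSeries σ K)) y
    have h2 : y * algebraMap _ F g = algebraMap _ F a := hag
    have hg0 : algebraMap (MvPowerSeries σ K) F g ≠ 0 :=
      (map_ne_zero_iff _ (IsFractionRing.injective _ F)).2 (nonZeroDivisors.ne_zero hg)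
    have hy : y ^ p = algebraMap _ F (a ^ p) / algebraMap _ F (g ^ p) := by
      rw [map_pow, map_pow, ← h2, mul_pow, mul_div_cancel_right₀ _ (pow_ne_zero _ hg0)]
    show y ^ p ∈ _
    rw [hy]
    exact div_mem (Subfield.subset_closure ⟨_, pow_mem_frobSub db S a, rfl⟩)
      (Subfield.subset_closure ⟨_, pow_mem_frobSub db S g, rfl⟩)

end Groth.Agent.NagataJac
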