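import Groth.Agent.EGA41Lib.FieldCrit
import Groth.Agent.EGA41Lib.FrobLI
import Mathlib.RingTheory.MvPowerSeries.Derivative
import Mathlib.RingTheory.MvPowerSeries.Expand
import Mathlib.RingTheory.MvPowerSeries.Equiv
import Mathlib.RingTheory.IntegralClosure.IsIntegralClosure.Basic
import Mathlib.LinearAlgebra.Dimension.Constructions
import Mathlib.RingTheory.Flat.FaithfullyFlat.Algebra

/-!
# The subrings `K'[[T^p]]` of `K[[T]]` and the derivations cutting them out

For a field `K` of characteristic `p` with derivations `δ` dual to a `p`-basis `b`, and a finite set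
`S` of indices, `frobSub δ S` is the subring of `K[[T_1, …, T_r]]` killed by the partial derivatives
and by the `δ i`, `i ∈ S`, applied coefficientwise.
-/

universe u

open MvPowerSeries (coeff C X monomial pderiv)
open scoped Classical

-- use the canonical `ℤ`-algebra structure on power series rings
attribute [local instance 10000] Ring.toIntAlgebra


set_option linter.unusedSectionVars false

namespace Groth.Agent.NagataJac

variable {K : Type u} [Field K]

/-- The field of constants of finitely many derivations. -/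
def constField {ι₀ : Type u} (δ : ι₀ → Derivation ℤ K K) (S : Finset ι₀) : Subfield K where
  carrier := {c | ∀ i ∈ S, δ i c = 0}
  mul_mem' {a b} ha hb i hi := by rw [Derivation.leibniz, ha i hi, hb i hi, smul_zero, smul_zero, add_zero]
  one_mem' i _ := (δ i).map_one_eq_zero
  add_mem' {a b} ha hb i hi := by rw [map_add, ha i hi, hb i hi, add_zero]
  zero_mem' i _ := map_zero _
  neg_mem' {a} ha i hi := by rw [map_neg, ha i hi, neg_zero]
  inv_mem' a ha i hi := by rw [Derivation.leibniz_inv, ha i hi, smul_zero]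

theorem mem_constField {ι₀ : Type u} {δ : ι₀ → Derivation ℤ K K} {S : Finset ι₀} {c : K} :
    c ∈ constField δ S ↔ ∀ i ∈ S, δ i c = 0 := Iff.rfl

/-- The data of a `p`-basis with its dual derivations. -/
structure DualBasis (p : ℕ) (K : Type u) [Field K] where
  ι₀ : Type u
  b : ι₀ → K
  δ : ι₀ → Derivation ℤ K K
  dual : ∀ i j, δ i (b j) = if i = j then 1 else 0
  eq_pow : ∀ c : K, (∀ i, δ i c = 0) → ∃ y : K, y ^ p = c
  closure_eq : Subring.closure ((Set.range fun y : K => y ^ p) ∪ Set.range b) = ⊤

theorem exists_dualBasis (p : ℕ) [Fact p.Prime] (K : Type u) [Field K] [CharP K p] :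
    Nonempty (DualBasis p K) := by
  classical
  obtain ⟨B, hB⟩ := EGA41Lib.exists_isPBasis (p := p) (k := ℤ) (K := K)
  choose δ hδ using fun i : B => EGA41Lib.exists_dual_derivation (A := ℤ) hB (fun j => if i = j then (1 : K) else 0)
  obtain ⟨bK, hbK⟩ := EGA41Lib.exists_basis_kaehler (A := ℤ) hB
  have hp2 : (EGA41Lib.pSub p ℤ K : Set K) = Set.range fun y : K => y ^ p := by
    rw [EGA41Lib.pSub_int_eq_range, RingHom.coe_range]; rfl
  refine ⟨⟨B, Subtype.val, δ, fun i j => by convert hδ i j, fun c hc => ?_, ?_⟩⟩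
  · have hd : KaehlerDifferential.D ℤ K c = 0 := by
      refine bK.repr.map_eq_zero_iff.mp (Finsupp.ext fun i => ?_)
      have h1 : (bK.coord i) = (δ i).liftKaehlerDifferential := by
        refine bK.ext fun j => ?_
        rw [Module.Basis.coord_apply, bK.repr_self, hbK, Derivation.liftKaehlerDifferential_comp_D, hδ,
          Finsupp.single_apply]
        exact if_congr eq_comm rfl rfl
      have h2 := LinearMap.congr_fun h1 (KaehlerDifferential.D ℤ K c)
      rwa [Module.Basis.coord_apply, Derivation.liftKaehlerDifferential_comp_D, hc i] at h2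
    by_contra hne
    have hmem : c ∉ EGA41Lib.pSub p ℤ K := fun h => hne ((Set.ext_iff.mp hp2 c).mp h)
    have h1 := (EGA41Lib.isPIndependent_iff_linearIndependent (p := p) (k := ℤ) (fun _ : PUnit.{u+1} => c)).1
      (EGA41Lib.ind_single (EGA41Lib.pow_mem_pSub p ℤ) hmem)
    exact h1.ne_zero PUnit.unit hd
  · rw [← hp2, Subtype.range_coe, ← (EGA41Lib.pGen_iff_closure p ℤ (Subtype.val : B → K)).1 hB.2,
      Subtype.range_coe]

variable {p : ℕ} (db : DualBasis p K)

theorem pow_mem_constField [CharP K p] (S : Finset db.ι₀) (y : K) : y ^ p ∈ constField db.δ S := fun i _ => by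
  rw [Derivation.leibniz_pow, ← Nat.cast_smul_eq_nsmul K, CharP.cast_eq_zero, zero_smul]

theorem b_mem_constField {S : Finset db.ι₀} {j : db.ι₀} (hj : j ∉ S) : db.b j ∈ constField db.δ S := fun i hi => by
  rw [db.dual, if_neg (by rintro rfl; exact hj hi)]

theorem closure_constField_eq_top [CharP K p] (S : Finset db.ι₀) :
    Subring.closure ((constField db.δ S : Set K) ∪ db.b '' S) = ⊤ := by
  refine eq_top_iff.2 (db.closure_eq.ge.trans (Subring.closure_le.2 ?_))
  rintro x (⟨y, rfl⟩ | ⟨j, rfl⟩)
  · exact Subring.subset_closure (Or.inl (pow_mem_constField db S y))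
  · by_cases hj : j ∈ S
    · exact Subring.subset_closure (Or.inr ⟨j, hj, rfl⟩)
    · exact Subring.subset_closure (Or.inl (b_mem_constField db hj))

theorem finite_constField [Fact p.Prime] [CharP K p] (S : Finset db.ι₀) : Module.Finite (constField db.δ S) K := by
  classical
  have h1 : Algebra.adjoin (constField db.δ S) ((S.image db.b : Finset K) : Set K) = ⊤ := by
    refine eq_top_iff.2 fun x _ => ?_
    have hx : x ∈ Subring.closure ((constField db.δ S : Set K) ∪ db.b '' S) := by
      rw [closure_constField_eq_top]; trivial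
    rw [← Subalgebra.mem_toSubring, Algebra.adjoin_eq_ring_closure]
    refine Subring.closure_mono (Set.union_subset_union ?_ ?_) hx
    · exact fun c hc => ⟨⟨c, hc⟩, rfl⟩
    · rw [Finset.coe_image]
  refine ⟨?_⟩
  rw [← Algebra.top_toSubmodule, ← h1]
  refine fg_adjoin_of_finite (Finset.finite_toSet _) fun x _ => ?_
  refine ⟨Polynomial.X ^ p - Polynomial.C ⟨x ^ p, pow_mem_constField db S x⟩,
    Polynomial.monic_X_pow_sub_C _ (NeZero.ne p), ?_⟩
  rw [Polynomial.eval₂_sub, Polynomial.eval₂_X_pow, Polynomial.eval₂_C]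
  exact sub_self _

variable {σ : Type} [Finite σ]

/-- A map of `K` applied coefficientwise. -/
def coeffMap (d : K → K) (f : MvPowerSeries σ K) : MvPowerSeries σ K := fun n => d (coeff n f)

theorem coeff_coeffMap (d : K → K) (f : MvPowerSeries σ K) (n : σ →₀ ℕ) :
    coeff n (coeffMap d f) = d (coeff n f) := rfl

/-- A derivation of `K` applied coefficientwise. -/
noncomputable def coeffDeriv (d : Derivation ℤ K K) : Derivation ℤ (MvPowerSeries σ K) (MvPowerSeries σ K) :=
  Derivation.mk'
    (AddMonoidHom.toIntLinearMap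
      { toFun := coeffMap d
        map_zero' := MvPowerSeries.ext fun n => by rw [coeff_coeffMap, map_zero, map_zero]
        map_add' := fun f g => MvPowerSeries.ext fun n => by
          rw [coeff_coeffMap, map_add, map_add, map_add, coeff_coeffMap, coeff_coeffMap] })
    (fun f g => by
      refine MvPowerSeries.ext fun n => ?_
      show coeff n (coeffMap d (f * g)) = coeff n (f * coeffMap d g + g * coeffMap d f)
      rw [coeff_coeffMap, map_add, mul_comm g (coeffMap d f), MvPowerSeries.coeff_mul,
        MvPowerSeries.coeff_mul, MvPowerSeries.coeff_mul, map_sum, ← Finset.sum_add_distrib]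
      refine Finset.sum_congr rfl fun x _ => ?_
      rw [Derivation.leibniz, smul_eq_mul, smul_eq_mul, coeff_coeffMap, coeff_coeffMap, mul_comm (coeff x.2 g)])

theorem coeff_coeffDeriv (d : Derivation ℤ K K) (f : MvPowerSeries σ K) (n : σ →₀ ℕ) :
    coeff n (coeffDeriv d f) = d (coeff n f) := rfl

theorem coeffDeriv_C (d : Derivation ℤ K K) (c : K) :
    coeffDeriv (σ := σ) d (C c) = C (d c) := by
  classical
  refine MvPowerSeries.ext fun n => ?_
  rw [coeff_coeffDeriv, MvPowerSeries.coeff_C, MvPowerSeries.coeff_C]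
  split_ifs <;> simp

theorem coeffDeriv_X (d : Derivation ℤ K K) (i : σ) : coeffDeriv (σ := σ) d (X i) = 0 := by
  classical
  refine MvPowerSeries.ext fun n => ?_
  rw [coeff_coeffDeriv, MvPowerSeries.coeff_X, map_zero]
  split_ifs <;> simp

/-- The derivations indexed by `S ⊕ σ`: coefficientwise `δ i` and partial derivatives. -/
noncomputable def dder (S : Finset db.ι₀) : S ⊕ σ → Derivation ℤ (MvPowerSeries σ K) (MvPowerSeries σ K) :=
  Sum.elim (fun i => coeffDeriv (db.δ i)) (fun j => (pderiv K j).restrictScalars ℤ)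

/-- The subring `K_S[[T^p]]`. -/
def frobSub (S : Finset db.ι₀) : Subring (MvPowerSeries σ K) where
  carrier := {f | ∀ t : S ⊕ σ, dder db S t f = 0}
  mul_mem' {a b} ha hb t := by rw [Derivation.leibniz, ha t, hb t, smul_zero, smul_zero, add_zero]
  one_mem' t := (dder db S t).map_one_eq_zero
  add_mem' {a b} ha hb t := by rw [map_add, ha t, hb t, add_zero]
  zero_mem' t := map_zero _
  neg_mem' {a} ha t := by rw [map_neg, ha t, neg_zero]

theorem mem_frobSub {S : Finset db.ι₀} {f : MvPowerSeries σ K} :
    f ∈ frobSub db S ↔ ∀ t : S ⊕ σ, dder db S t f = 0 := Iff.rfl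

theorem mem_frobSub_iff_coeff [CharP K p] {S : Finset db.ι₀} {f : MvPowerSeries σ K} :
    f ∈ frobSub db S ↔
      ∀ n, coeff n f ∈ constField db.δ S ∧ (coeff n f ≠ 0 → ∀ j, p ∣ n j) := by
  classical
  rw [mem_frobSub, Sum.forall]
  constructor
  · rintro ⟨h1, h2⟩ n
    refine ⟨fun i hi => ?_, fun hn j => ?_⟩
    · have := congrArg (coeff n) (h1 ⟨i, hi⟩)
      rwa [map_zero, dder, Sum.elim_inl, coeff_coeffDeriv] at this
    · by_contra hj
      have h0 : 1 ≤ n j := Nat.one_le_iff_ne_zero.2 fun h => hj (h ▸ dvd_zero p)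
      have h3 := congrArg (coeff (n - Finsupp.single j 1)) (h2 j)
      rw [map_zero, dder, Sum.elim_inr, Derivation.restrictScalars_apply, MvPowerSeries.coeff_pderiv,
        tsub_add_cancel_of_le (Finsupp.single_le_iff.2 h0), Finsupp.tsub_apply, Finsupp.single_eq_same,
        ← Nat.cast_add_one, Nat.sub_add_cancel h0] at h3
      rcases mul_eq_zero.1 h3 with h3 | h3
      · exact hn h3
      · exact hj ((CharP.cast_eq_zero_iff K p _).1 h3)
  · refine fun h => ⟨fun i => MvPowerSeries.ext fun n => ?_, fun j => MvPowerSeries.ext fun n => ?_⟩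
    · rw [dder, Sum.elim_inl, coeff_coeffDeriv, map_zero]
      exact (h n).1 i i.2
    · rw [dder, Sum.elim_inr, Derivation.restrictScalars_apply, MvPowerSeries.coeff_pderiv, map_zero]
      by_cases hn : coeff (n + Finsupp.single j 1) f = 0
      · rw [hn, zero_mul]
      · have := (h _).2 hn j
        rw [Finsupp.add_apply, Finsupp.single_eq_same] at this
        rw [← Nat.cast_add_one, (CharP.cast_eq_zero_iff K p _).2 this, mul_zero]

theorem C_mem_frobSub {S : Finset db.ι₀} {c : K} (hc : c ∈ constField db.δ S) :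
    (C c : MvPowerSeries σ K) ∈ frobSub db S := by
  rintro (i | j)
  · rw [dder, Sum.elim_inl, coeffDeriv_C, hc i i.2, map_zero]
  · rw [dder, Sum.elim_inr, Derivation.restrictScalars_apply, MvPowerSeries.pderiv_C]

theorem pow_mem_frobSub [CharP K p] (S : Finset db.ι₀) (f : MvPowerSeries σ K) : f ^ p ∈ frobSub db S := fun t => by
  rw [Derivation.leibniz_pow, ← Nat.cast_smul_eq_nsmul K, CharP.cast_eq_zero, zero_smul]

theorem dder_X [DecidableEq σ] (S : Finset db.ι₀) (t : S ⊕ σ) (j : σ) :
    dder db S t (X j) = if t = Sum.inr j then 1 else 0 := by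
  rcases t with i | i
  · rw [dder, Sum.elim_inl, coeffDeriv_X, if_neg Sum.inl_ne_inr]
  · rw [dder, Sum.elim_inr, Derivation.restrictScalars_apply]
    by_cases hij : i = j
    · subst hij; rw [MvPowerSeries.pderiv_X_self, if_pos rfl]
    · rw [MvPowerSeries.pderiv_X_of_ne (Ne.symm hij), if_neg (fun h => hij (Sum.inr_injective h))]

theorem dder_C_b [DecidableEq db.ι₀] (S : Finset db.ι₀) (t : S ⊕ σ) (j : S) :
    dder db S t (C (db.b j) : MvPowerSeries σ K) = if t = Sum.inl j then 1 else 0 := by
  rcases t with i | i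
  · rw [dder, Sum.elim_inl, coeffDeriv_C, db.dual]
    by_cases hij : i = j
    · subst hij; rw [if_pos rfl, if_pos rfl, map_one]
    · rw [if_neg (fun h => hij (Subtype.ext h)), if_neg (fun h => hij (Sum.inl_injective h)), map_zero]
  · rw [dder, Sum.elim_inr, Derivation.restrictScalars_apply, MvPowerSeries.pderiv_C, if_neg Sum.inr_ne_inl]

/-- The residue of an exponent modulo `p`. -/
noncomputable def expMod (p : ℕ) [NeZero p] (n : σ →₀ ℕ) : σ → Fin p := fun j => ⟨n j % p, Nat.mod_lt _ (NeZero.pos p)⟩

/-- An exponent below `p`, as a finitely supported function. -/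
noncomputable def expOf (β : σ → Fin p) : σ →₀ ℕ := Finsupp.equivFunOnFinite.symm fun j => (β j : ℕ)

theorem expOf_apply (β : σ → Fin p) (j : σ) : expOf β j = β j := rfl

section decomp

variable [Fact p.Prime] [CharP K p] (S : Finset db.ι₀) {N : Type*} [Fintype N] [Fintype σ]

theorem coeff_decomp (e : N → K) (q : N × (σ → Fin p) → frobSub (σ := σ) db S) (n : σ →₀ ℕ) :
    coeff n (∑ x, q x • monomial (expOf x.2) (e x.1)) =
      ∑ α, coeff (n - expOf (expMod p n)) (q (α, expMod p n) : MvPowerSeries σ K) * e α := by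
  classical
  rw [map_sum, Fintype.sum_prod_type]
  refine Finset.sum_congr rfl fun α _ => ?_
  rw [Fintype.sum_eq_single (expMod p n)]
  · show coeff n ((q _ : MvPowerSeries σ K) * monomial _ _) = _
    rw [MvPowerSeries.coeff_mul_monomial, if_pos]
    intro j
    rw [expOf_apply]
    exact Nat.mod_le _ _
  · intro β hβ
    show coeff n ((q (α, β) : MvPowerSeries σ K) * monomial _ _) = 0
    rw [MvPowerSeries.coeff_mul_monomial]
    split_ifs with hle
    · by_contra hne
      refine hβ (funext fun j => Fin.ext ?_)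
      have h1 := ((mem_frobSub_iff_coeff db).1 (q (α, β)).2 (n - expOf β)).2 (left_ne_zero_of_mul hne) j
      rw [Finsupp.tsub_apply, expOf_apply] at h1
      have h2 : (β j : ℕ) ≤ n j := hle j
      show (β j : ℕ) = n j % p
      exact ((Nat.mod_eq_of_lt (β j).2).symm.trans ((Nat.modEq_iff_dvd' h2).2 h1))
    · rfl

theorem linearIndependent_decomp {e : N → K} (he : LinearIndependent (constField db.δ S) e) :
    LinearIndependent (frobSub (σ := σ) db S) fun x : N × (σ → Fin p) =>
      (monomial (expOf x.2) (e x.1) : MvPowerSeries σ K) := by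
  classical
  rw [Fintype.linearIndependent_iff]
  rintro q hq ⟨α, β⟩
  refine Subtype.ext (MvPowerSeries.ext fun m => ?_)
  rw [ZeroMemClass.coe_zero, map_zero]
  by_contra hne
  have hm := ((mem_frobSub_iff_coeff db).1 (q (α, β)).2 m).2 hne
  have hmod : expMod p (m + expOf β) = β := funext fun j => Fin.ext <| by
    show (m j + expOf β j) % p = β j
    obtain ⟨c, hc⟩ := hm j
    rw [hc, Nat.mul_add_mod, expOf_apply, Nat.mod_eq_of_lt (β j).2]
  have h1 := congrArg (coeff (m + expOf β)) hq
  rw [coeff_decomp, hmod, add_tsub_cancel_right, map_zero] at h1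
  have h2 := Fintype.linearIndependent_iff.1 he
    (fun a => ⟨coeff m (q (a, β) : MvPowerSeries σ K), ((mem_frobSub_iff_coeff db).1 (q (a, β)).2 m).1⟩)
    (by simpa [Subfield.smul_def] using h1) α
  exact hne (congrArg Subtype.val h2)

theorem exists_decomp (B : Module.Basis N (constField db.δ S) K) (f : MvPowerSeries σ K) :
    ∃ q : N × (σ → Fin p) → frobSub (σ := σ) db S, f = ∑ x, q x • monomial (expOf x.2) (B x.1) := by
  classical
  let g : N × (σ → Fin p) → MvPowerSeries σ K := fun x m =>
    if ∀ j, p ∣ m j then ((B.repr (coeff (m + expOf x.2) f) x.1 : constField db.δ S) : K) else 0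
  have hg : ∀ x, g x ∈ frobSub db S := fun x => by
    refine (mem_frobSub_iff_coeff db).2 fun m => ?_
    show (if _ then _ else (0 : K)) ∈ _ ∧ ((if _ then _ else (0 : K)) ≠ 0 → _)
    split_ifs with h
    · exact ⟨SetLike.coe_mem _, fun _ => h⟩
    · exact ⟨zero_mem _, fun h' => absurd rfl h'⟩
  refine ⟨fun x => ⟨g x, hg x⟩, MvPowerSeries.ext fun n => ?_⟩
  rw [coeff_decomp]
  have hle : expOf (expMod p n) ≤ n := fun j => by rw [expOf_apply]; exact Nat.mod_le _ _
  have hdvd : ∀ j, p ∣ (n - expOf (expMod p n)) j := fun j => by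
    rw [Finsupp.tsub_apply, expOf_apply]
    exact Nat.dvd_sub_mod (n j)
  conv_lhs => rw [← B.sum_repr (coeff n f)]
  refine Finset.sum_congr rfl fun α _ => ?_
  show _ = (if _ then _ else (0 : K)) * _
  rw [if_pos hdvd, tsub_add_cancel_of_le hle]
  rfl

theorem exists_basis : ∃ (n : ℕ) (c : Module.Basis (Fin n × (σ → Fin p)) (frobSub (σ := σ) db S) (MvPowerSeries σ K))
    (e : Fin n → K), ∀ x, c x = monomial (expOf x.2) (e x.1) := by
  classical
  have := finite_constField db S
  let B := Module.finBasis (constField db.δ S) K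
  refine ⟨_, Module.Basis.mk (linearIndependent_decomp db S B.linearIndependent) ?_, B, fun x => Module.Basis.mk_apply _ _ x⟩
  rintro f -
  obtain ⟨q, rfl⟩ := exists_decomp db S B f
  exact Submodule.sum_mem _ fun x _ => Submodule.smul_mem _ _ (Submodule.subset_span ⟨x, rfl⟩)

theorem finite_frobSub : Module.Finite (frobSub (σ := σ) db S) (MvPowerSeries σ K) :=
  let ⟨_, c, _⟩ := exists_basis db S
  Module.Finite.of_basis c

theorem free_frobSub : Module.Free (frobSub (σ := σ) db S) (MvPowerSeries σ K) :=
  let ⟨_, c, _⟩ := exists_basis db S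
  Module.Free.of_basis c

theorem isNoetherianRing_frobSub : IsNoetherianRing (frobSub (σ := σ) db S) := by
  have := free_frobSub (σ := σ) db S
  have : Nontrivial (MvPowerSeries σ K) := inferInstance
  have : Module.FaithfullyFlat (frobSub (σ := σ) db S) (MvPowerSeries σ K) := inferInstance
  rw [isNoetherianRing_iff, isNoetherian_iff']
  refine StrictMono.wellFoundedGT (f := fun J : Ideal (frobSub (σ := σ) db S) =>
    J.map (algebraMap _ (MvPowerSeries σ K))) (Monotone.strictMono_of_injective (fun _ _ h => Ideal.map_mono h) ?_)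
  intro I J h
  rw [← Ideal.comap_map_eq_self_of_faithfullyFlat (B := MvPowerSeries σ K) I,
    ← Ideal.comap_map_eq_self_of_faithfullyFlat (B := MvPowerSeries σ K) J]
  exact congrArg (Ideal.comap _) h

theorem closure_frobSub_eq_top :
    Subring.closure ((frobSub (σ := σ) db S : Set (MvPowerSeries σ K)) ∪
      (Set.range (fun i : S => (C (db.b i) : MvPowerSeries σ K)) ∪ Set.range X)) = ⊤ := by
  classical
  set T := Subring.closure ((frobSub (σ := σ) db S : Set (MvPowerSeries σ K)) ∪
    (Set.range (fun i : S => (C (db.b i) : MvPowerSeries σ K)) ∪ Set.range X))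
  have hC : ∀ c : K, (C c : MvPowerSeries σ K) ∈ T := by
    intro c
    have hc : c ∈ Subring.closure ((constField db.δ S : Set K) ∪ db.b '' S) := by
      rw [closure_constField_eq_top]; trivial
    refine (Subring.closure_le (t := T.comap (MvPowerSeries.C (σ := σ) (R := K)))).2 ?_ hc
    rintro x (hx | ⟨i, hi, rfl⟩)
    · exact Subring.subset_closure (Or.inl (C_mem_frobSub db hx))
    · exact Subring.subset_closure (Or.inr (Or.inl ⟨⟨i, hi⟩, rfl⟩))
  refine eq_top_iff.2 fun f _ => ?_
  obtain ⟨n, c, e, hce⟩ := exists_basis (σ := σ) db S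
  rw [← c.sum_repr f]
  refine Subring.sum_mem _ fun x _ => ?_
  show (c.repr f x : MvPowerSeries σ K) * c x ∈ T
  refine Subring.mul_mem _ (Subring.subset_closure (Or.inl (c.repr f x).2)) ?_
  rw [hce, MvPowerSeries.monomial_eq', Finsupp.prod]
  refine mul_mem (hC _) (prod_mem fun j _ => pow_mem ?_ _)
  exact Subring.subset_closure (Or.inr (Or.inr ⟨j, rfl⟩))

end decomp

/-- A power series killed by every `dder` is a `p`-th power. -/
theorem exists_pow_eq_of_forall_mem [Fact p.Prime] [CharP K p] {f : MvPowerSeries σ K}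
    (hf : ∀ S : Finset db.ι₀, f ∈ frobSub db S) : ∃ g : MvPowerSeries σ K, g ^ p = f := by
  classical
  have hp : p ≠ 0 := NeZero.ne p
  choose root hroot using fun n : σ →₀ ℕ => db.eq_pow (coeff n f) fun i =>
    ((mem_frobSub_iff_coeff db).1 (hf {i}) n).1 i (Finset.mem_singleton_self i)
  let g : MvPowerSeries σ K := fun m => root (p • m)
  have hg : ∀ m, coeff m g = root (p • m) := fun m => rfl
  refine ⟨g, ?_⟩
  rw [← MvPowerSeries.map_frobenius_expand p (hp := hp)]
  refine MvPowerSeries.ext fun n => ?_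
  rw [MvPowerSeries.coeff_map]
  by_cases hn : ∀ j, p ∣ n j
  · have hnm : n = p • Finsupp.equivFunOnFinite.symm (fun j => n j / p) :=
      Finsupp.ext fun j => by simp [Nat.mul_div_cancel' (hn j)]
    rw [hnm, MvPowerSeries.coeff_expand_smul, hg, frobenius_def]
    exact hroot _
  · obtain ⟨j, hj⟩ := not_forall.1 hn
    rw [MvPowerSeries.coeff_expand_of_not_dvd _ _ _ hj, map_zero]
    by_contra h
    exact hj (((mem_frobSub_iff_coeff db).1 (hf ∅) n).2 (Ne.symm h) j)

end Groth.Agent.NagataJac
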