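import Groth.Agent.NagataJac.Criterion

/-!
# Nagata's Jacobian criterion over a field with finite `p`-degree
-/

universe u

open IsLocalRing TensorProduct KaehlerDifferential
open MvPowerSeries (pderiv)
open scoped Classical

-- use the canonical `ℤ`-algebra structures
attribute [local instance 10000] Ring.toIntAlgebra
set_option linter.unusedSectionVars false

namespace Groth.Agent.NagataJac

section setting

variable {k K₀ A : Type u} [Field k] [Field K₀] [Algebra k K₀] [Algebra.IsGeometricallyReduced k K₀]
  [CommRing A] [IsLocalRing A] [IsNoetherianRing A]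
  [Algebra k A] [Algebra K₀ A] [IsScalarTower k K₀ A]

theorem isAdicFormallySmooth_base (hA : CAlgX.IsAdicFormallySmooth K₀ A (maximalIdeal A)) :
    CAlgX.IsAdicFormallySmooth k A (maximalIdeal A) := by
  have : Algebra.FormallySmooth k K₀ :=
    EGA41Lib.formallySmooth_iff_isGeometricallyReduced.mpr ‹_›
  exact PP16Lib.adicSmooth_comp (Λ := k) hA

theorem localization_data (hA : CAlgX.IsAdicFormallySmooth K₀ A (maximalIdeal A)) (P : Ideal A) [P.IsPrime] :
    IsRegularLocalRing (Localization.AtPrime P) ∧
      Function.Injective ((mapBaseChange ℤ k (Localization.AtPrime P)).lTensor P.ResidueField) :=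
  S2471.result.mp (S4574.result (isAdicFormallySmooth_base (k := k) hA) P)

end setting

variable {k A : Type u} [Field k] [CommRing A] [IsLocalRing A] [IsNoetherianRing A] [Algebra k A]

/-- The (⇒) half in characteristic `p`. -/
theorem exists_det_charP (p : ℕ) [Fact p.Prime] [CharP k p] (hk : Module.Finite (frobenius k p).fieldRange k)
    {K : Type u} [Field K] {r : ℕ} (e : A ≃+* MvPowerSeries (Fin r) K) (P q : Ideal A) [P.IsPrime] (hqp : q ≤ P)
    [IsRegularLocalRing (Localization.AtPrime P)] [(P.map (Ideal.Quotient.mk q)).IsPrime]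
    (h : CAlgX.IsAdicFormallySmooth k (Localization.AtPrime (P.map (Ideal.Quotient.mk q)))
      (maximalIdeal (Localization.AtPrime (P.map (Ideal.Quotient.mk q))))) :
    ∃ (m : ℕ) (D : Fin m → Derivation k A A) (f : Fin m → A), (∀ i, f i ∈ q) ∧
      q.map (algebraMap A (Localization.AtPrime P)) =
        Ideal.span (Set.range fun i => algebraMap A (Localization.AtPrime P) (f i)) ∧
      Matrix.det (Matrix.of fun i j => D i (f j)) ∉ P := by
  let R := Localization.AtPrime P
  let L := P.ResidueField
  let J := q.map (algebraMap A R)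
  have hreg := isRegularLocalRing_of_formallySmooth_quotient P q hqp h
  obtain ⟨m, f, hf, hgen, hindep⟩ := exists_generators P q hqp hreg
  have hJm : J ≤ maximalIdeal R := by
    rw [← IsLocalization.AtPrime.map_eq_maximalIdeal P R]; exact Ideal.map_mono hqp
  -- characteristic
  have hAK : CharP A p := charP_of_injective_ringHom (f := algebraMap k A) (RingHom.injective _) p
  have hRp : CharP R p := charP_of_injective_ringHom (f := algebraMap k R) (RingHom.injective _) p
  have hLp : CharP L p := charP_of_injective_ringHom (f := algebraMap k L) (RingHom.injective _) p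
  have hKp : CharP K p := by
    have : CharP (MvPowerSeries (Fin r) K) p := charP_of_injective_ringHom (f := e.toRingHom) e.injective p
    exact ((MvPowerSeries.C (σ := Fin r) (R := K)).charP_iff MvPowerSeries.C_injective p).mpr this
  -- a finite `p`-basis of `k`
  obtain ⟨db⟩ := exists_dualBasis p k
  have hfinΩ : Module.Finite k Ω[k⁄ℤ] := by
    obtain ⟨G, hG⟩ := hk.fg_top
    refine ⟨⟨G.image (D ℤ k), eq_top_iff.mpr ?_⟩⟩
    rw [← KaehlerDifferential.span_range_derivation ℤ k, Submodule.span_le]
    rintro _ ⟨c, rfl⟩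
    have hc : c ∈ Submodule.span (frobenius k p).fieldRange (G : Set k) := by rw [hG]; trivial
    induction hc using Submodule.span_induction with
    | mem z hz => exact Submodule.subset_span (Finset.mem_coe.mpr (Finset.mem_image_of_mem _ hz))
    | zero => simp
    | add u v _ _ hu hv => rw [map_add]; exact add_mem hu hv
    | smul a u _ hu =>
      obtain ⟨a, y, rfl⟩ := a
      show D ℤ k (frobenius k p y * u) ∈ _
      rw [frobenius_def, Derivation.leibniz, Derivation.leibniz_pow, ← Nat.cast_smul_eq_nsmul k, CharP.cast_eq_zero,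
        zero_smul, smul_zero, add_zero]
      exact Submodule.smul_mem _ _ hu
  have : Finite db.ι₀ := by
    have hli : LinearIndependent k fun i => D ℤ k (db.b i) := by
      rw [linearIndependent_iff']
      intro s g hg i hi
      have h2 := congrArg (db.δ i).liftKaehlerDifferential hg
      simpa [map_sum, Derivation.liftKaehlerDifferential_comp_D, db.dual, hi] using h2
    exact hli.finite
  have : Fintype db.ι₀ := Fintype.ofFinite _
  -- derivations of `R ⧸ J` extending those of `k`
  have : Nontrivial (R ⧸ J) := Ideal.Quotient.nontrivial_iff.mpr fun h' =>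
    (maximalIdeal.isMaximal R).ne_top (top_le_iff.mp (h' ▸ hJm))
  have : IsLocalRing (R ⧸ J) := .of_surjective' (Ideal.Quotient.mk J) Ideal.Quotient.mk_surjective
  have hC : CAlgX.IsAdicFormallySmooth k (R ⧸ J) (maximalIdeal (R ⧸ J)) :=
    isAdicFormallySmooth_of_algEquiv (quotLocEquiv (k := k) P q hqp).symm h
  let res : R ⧸ J →+* L := Ideal.Quotient.lift J (algebraMap R L) fun x hx => by
    rw [show algebraMap R L x = residue R x from rfl, residue_eq_zero_iff]
    exact hJm hx
  let _ : Algebra (R ⧸ J) L := res.toAlgebra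
  have : IsScalarTower R (R ⧸ J) L := ⟨fun a b c => by
    obtain ⟨b, rfl⟩ := Ideal.Quotient.mk_surjective b
    rw [Algebra.smul_def (a • Ideal.Quotient.mk J b) c, Algebra.smul_def (Ideal.Quotient.mk J b) c,
      Algebra.smul_def a (algebraMap (R ⧸ J) L (Ideal.Quotient.mk J b) * c), ← mul_assoc]
    congr 1⟩
  have : IsScalarTower k (R ⧸ J) L := IsScalarTower.of_algebraMap_eq (R := k) (S := R ⧸ J) (A := L) fun x => by
    exact IsScalarTower.algebraMap_apply k R L x
  have hsurj : Function.Surjective (algebraMap (R ⧸ J) L) := fun y => by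
    obtain ⟨x, rfl⟩ := residue_surjective (R := R) y
    exact ⟨Ideal.Quotient.mk J x, rfl⟩
  have hinjC := (ComplDeriv.kInj_iff hsurj).mp (S2471.result.mp hC).2
  choose γ hγ using fun i => exists_extend_of_lTensor_injective hinjC
    (((Algebra.linearMap k L).comp (db.δ i).liftKaehlerDifferential).compDer (D ℤ k))
  have hγc : ∀ i j, γ i (Ideal.Quotient.mk J (algebraMap k R (db.b j))) = if i = j then 1 else 0 := fun i j => by
    rw [← Ideal.Quotient.algebraMap_eq, ← IsScalarTower.algebraMap_apply k R (R ⧸ J), hγ]
    show algebraMap k L ((db.δ i).liftKaehlerDifferential (D ℤ k (db.b j))) = _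
    rw [Derivation.liftKaehlerDifferential_comp_D, db.dual]
    split_ifs <;> simp
  have hγf : ∀ i j, γ i (Ideal.Quotient.mk J (algebraMap A R (f j))) = 0 := fun i j => by
    rw [Ideal.Quotient.eq_zero_iff_mem.mpr (Ideal.mem_map_of_mem _ (hf j)), map_zero]
  -- derivations dual to the `f j`
  let v : Fin m → L ⊗[R] Ω[R⁄ℤ] := fun j => (1 : L) ⊗ₜ D ℤ R (algebraMap A R (f j))
  have hv : LinearIndependent L v := by
    rw [Fintype.linearIndependent_iff]
    intro a ha i
    choose a' ha' using fun j => residue_surjective (R := R) (a j)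
    have hz : ∀ j, algebraMap A R (f j) ∈ RingHom.ker (algebraMap R L) := fun j => by
      rw [RingHom.mem_ker, ← IsScalarTower.algebraMap_apply]
      exact Ideal.algebraMap_residueField_eq_zero.mpr (hqp (hf j))
    have h0 : kerCotangentToTensor ℤ R (ResidueField R)
        ((RingHom.ker (algebraMap R L)).toCotangent (∑ j, a' j • (⟨_, hz j⟩ : RingHom.ker (algebraMap R L)))) = 0 := by
      rw [map_sum, map_sum, ← ha]
      refine Finset.sum_congr rfl fun j _ => ?_
      rw [map_smul, map_smul, ← ha' j]
      exact (congrArg (a' j • ·) (kerCotangentToTensor_toCotangent ℤ R (ResidueField R) _)).trans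
        (algebraMap_smul L (a' j) (v j)).symm
    have h1 := (injective_iff_map_eq_zero _).mp
      (EGA41Lib.kerCotangentToTensor_injective_of_charP p R) _ h0
    rw [Ideal.toCotangent_eq_zero] at h1
    have h2 : (∑ j, a' j * algebraMap A R (f j)) ∈ maximalIdeal R ^ 2 := by
      have hker : RingHom.ker (algebraMap R L) = maximalIdeal R := ker_residue
      rw [← hker]
      convert h1 using 1
      simp
    rw [← ha' i]
    exact (residue_eq_zero_iff _).mpr (hindep a' h2 i)
  obtain ⟨ψ, hψ⟩ := (Fintype.linearCombination L v).exists_leftInverse_of_injective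
    (LinearMap.ker_eq_bot.mpr hv.fintypeLinearCombination_injective)
  let η₀ : Fin m → Derivation ℤ R L := fun i =>
    ((((LinearMap.proj i).comp ψ).restrictScalars R).comp (TensorProduct.mk R L Ω[R⁄ℤ] 1)).compDer (D ℤ R)
  have hη₀ : ∀ i j, η₀ i (algebraMap A R (f j)) = if i = j then 1 else 0 := fun i j => by
    show ψ (v j) i = _
    have h3 := LinearMap.congr_fun hψ (Pi.single j (1 : L))
    rw [LinearMap.comp_apply, Fintype.linearCombination_apply_single, one_smul, LinearMap.id_apply] at h3
    rw [h3, Pi.single_apply]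
  -- the combined dual system on `A`
  let γ' : db.ι₀ → A →+ L := fun i =>
    ((γ i).toLinearMap.toAddMonoidHom.comp (Ideal.Quotient.mk J).toAddMonoidHom).comp (algebraMap A R).toAddMonoidHom
  let η : Fin m → A →+ L := fun i =>
    (η₀ i).toLinearMap.toAddMonoidHom.comp (algebraMap A R).toAddMonoidHom -
      ∑ l, (AddMonoidHom.mulLeft (η₀ i (algebraMap k R (db.b l)))).comp (γ' l)
  have hresmk : ∀ x : A, algebraMap (R ⧸ J) L (Ideal.Quotient.mk J (algebraMap A R x)) = algebraMap A L x := fun x => by
    rw [← Ideal.Quotient.algebraMap_eq, ← IsScalarTower.algebraMap_apply R (R ⧸ J) L,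
      ← IsScalarTower.algebraMap_apply A R L]
  have hγleib : ∀ i a b, γ' i (a * b) = algebraMap A L a * γ' i b + algebraMap A L b * γ' i a := fun i a b => by
    show γ i (Ideal.Quotient.mk J (algebraMap A R (a * b))) = algebraMap A L a * γ i _ + algebraMap A L b * γ i _
    rw [map_mul, map_mul, Derivation.leibniz, Algebra.smul_def, Algebra.smul_def, hresmk, hresmk]
    rfl
  have hηapp : ∀ i x, η i x = η₀ i (algebraMap A R x) - ∑ l, η₀ i (algebraMap k R (db.b l)) * γ' l x := fun i x => by
    simp [η]
  let ι := db.ι₀ ⊕ Fin m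
  let eι := Fintype.equivFin ι
  let δ : ι → A →+ L := Sum.elim γ' η
  let g : ι → A := Sum.elim (fun l => algebraMap k A (db.b l)) f
  have hδleib : ∀ t a b, δ t (a * b) = algebraMap A L a * δ t b + algebraMap A L b * δ t a := by
    rintro (i | i) a b
    · exact hγleib i a b
    · show η i (a * b) = algebraMap A L a * η i b + algebraMap A L b * η i a
      rw [hηapp, hηapp, hηapp, map_mul, Derivation.leibniz, Algebra.smul_def, Algebra.smul_def,
        ← IsScalarTower.algebraMap_apply, ← IsScalarTower.algebraMap_apply, Finset.sum_congr rfl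
          (fun l _ => by rw [hγleib l a b]), mul_sub, mul_sub, Finset.mul_sum, Finset.mul_sum]
      simp only [mul_add, Finset.sum_add_distrib]
      rw [Finset.sum_congr rfl (fun l _ => mul_left_comm _ (algebraMap A L a) (γ' l b)),
        Finset.sum_congr rfl (fun l _ => mul_left_comm _ (algebraMap A L b) (γ' l a))]
      ring
  have hcmk : ∀ l, algebraMap A R (algebraMap k A (db.b l)) = algebraMap k R (db.b l) := fun l =>
    (IsScalarTower.algebraMap_apply k A R _).symm
  have hγ'c : ∀ i j, γ' i (algebraMap k A (db.b j)) = if i = j then 1 else 0 := fun i j => by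
    show γ i (Ideal.Quotient.mk J (algebraMap A R (algebraMap k A (db.b j)))) = _
    rw [hcmk]; exact hγc i j
  have hdual : ∀ t t', δ t (g t') = if t = t' then 1 else 0 := by
    rintro (i | i) (j | j)
    · show γ' i (algebraMap k A (db.b j)) = _
      rw [hγ'c]; exact if_congr Sum.inl_injective.eq_iff.symm rfl rfl
    · rw [if_neg Sum.inl_ne_inr]; exact hγf i j
    · rw [if_neg Sum.inr_ne_inl]
      show η i (algebraMap k A (db.b j)) = 0
      rw [hηapp, hcmk, Finset.sum_eq_single j (fun l _ hl => by rw [hγ'c, if_neg hl, mul_zero])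
        (fun h' => absurd (Finset.mem_univ j) h'), hγ'c, if_pos rfl, mul_one, sub_self]
    · show η i (f j) = _
      rw [hηapp, hη₀, Finset.sum_eq_zero fun l _ => by rw [show γ' l (f j) = 0 from hγf l j, mul_zero], sub_zero]
      exact if_congr Sum.inr_injective.eq_iff.symm rfl rfl
  obtain ⟨dbK⟩ := exists_dualBasis p K
  have hker : RingHom.ker (algebraMap A L) = P := by
    ext x; exact Ideal.algebraMap_residueField_eq_zero
  obtain ⟨u, D', hu, hD'⟩ := exists_dual_derivations_of_ringEquiv dbK e P (g ∘ eι.symm) (algebraMap A L) hker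
    (δ ∘ eι.symm) (fun i => hδleib _) (fun i j => by
      rw [Function.comp_apply, Function.comp_apply, hdual]
      exact if_congr eι.symm.injective.eq_iff rfl rfl)
  let Df : Fin m → Derivation ℤ A A := fun i => D' (eι (Sum.inr i))
  have hDf : ∀ i t, Df i (g t) = if Sum.inr i = t then u else 0 := fun i t => by
    have h' := hD' (eι (Sum.inr i)) (eι t)
    rw [Function.comp_apply, eι.symm_apply_apply] at h'
    rw [h']
    exact if_congr eι.injective.eq_iff rfl rfl
  have hk0 : ∀ i (x : k), Df i (algebraMap k A x) = 0 := fun i x => by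
    have hx : x ∈ Subring.closure ((Set.range fun y : k => y ^ p) ∪ Set.range db.b) := by rw [db.closure_eq]; trivial
    induction hx using Subring.closure_induction with
    | mem z hz =>
      rcases hz with ⟨y, rfl⟩ | ⟨l, rfl⟩
      · rw [map_pow, Derivation.leibniz_pow, ← Nat.cast_smul_eq_nsmul A, CharP.cast_eq_zero, zero_smul]
      · exact (hDf i (Sum.inl l)).trans (if_neg Sum.inr_ne_inl)
    | zero => simp
    | one => simp
    | add a b _ _ ha hb => rw [map_add, map_add, ha, hb, add_zero]
    | neg a _ ha => rw [map_neg, map_neg, ha, neg_zero]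
    | mul a b _ _ ha hb => rw [map_mul, Derivation.leibniz, ha, hb, smul_zero, smul_zero, add_zero]
  refine ⟨m, fun i => Derivation.mk'
    { toFun := Df i
      map_add' := map_add _
      map_smul' := fun c x => by
        rw [Algebra.smul_def, Derivation.leibniz, hk0, smul_zero, add_zero, RingHom.id_apply]
        exact algebraMap_smul A c _ }
    (fun a b => (Df i).leibniz a b), f, hf, hgen, ?_⟩
  have hM : (Matrix.of fun i j => Df i (f j)) = u • (1 : Matrix (Fin m) (Fin m) A) := by
    ext i j
    rw [Matrix.of_apply, Matrix.smul_apply, Matrix.one_apply, smul_eq_mul, mul_ite, mul_one, mul_zero]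
    exact (hDf i (Sum.inr j)).trans (if_congr Sum.inr_injective.eq_iff rfl rfl)
  show Matrix.det (Matrix.of fun i j => Df i (f j)) ∉ P
  rw [hM, Matrix.det_smul, Matrix.det_one, mul_one]
  exact fun hu' => hu ((inferInstance : P.IsPrime).mem_of_pow_mem _ hu')

/-- The (⇒) half in characteristic zero, via a `k`-compatible presentation. -/
theorem exists_det_charZero [CharZero k] [IsAdicComplete (maximalIdeal A) A] [IsRegularLocalRing A]
    (P q : Ideal A) [P.IsPrime] (hqp : q ≤ P)
    [IsRegularLocalRing (Localization.AtPrime P)] [(P.map (Ideal.Quotient.mk q)).IsPrime]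
    (h : CAlgX.IsAdicFormallySmooth k (Localization.AtPrime (P.map (Ideal.Quotient.mk q)))
      (maximalIdeal (Localization.AtPrime (P.map (Ideal.Quotient.mk q))))) :
    ∃ (m : ℕ) (D : Fin m → Derivation k A A) (f : Fin m → A), (∀ i, f i ∈ q) ∧
      q.map (algebraMap A (Localization.AtPrime P)) =
        Ideal.span (Set.range fun i => algebraMap A (Localization.AtPrime P) (f i)) ∧
      Matrix.det (Matrix.of fun i j => D i (f j)) ∉ P := by
  let R := Localization.AtPrime P
  let L := P.ResidueField
  let _ : Field (A ⧸ maximalIdeal A) := Ideal.Quotient.field _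
  let K := ResidueField A
  have : Algebra.FormallySmooth k (A ⧸ maximalIdeal A) := EGA41Lib.formallySmooth_of_charZero
  have : CharZero K := charZero_of_injective_ringHom (algebraMap k K).injective
  obtain ⟨r, e₀, he₀⟩ := PP16Lib.exists_completion_equiv_compat (F := k) (A := A)
    (PP16Lib.symGrBijective_of_isRegularLocalRing A)
  let A' := MvPowerSeries (Fin r) K
  let e : A ≃+* A' :=
    (RingEquiv.ofBijective (algebraMap A (AdicCompletion (maximalIdeal A) A)) (AdicCompletion.of_bijective _ A)).trans e₀
  have he : ∀ c, e (algebraMap k A c) = MvPowerSeries.C (algebraMap k K c) := fun c => he₀ c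
  let P' : Ideal A' := P.comap e.symm.toRingHom
  let pdA : Fin r → Derivation k A A := fun t =>
    Derivation.mk'
      { toFun := fun x => e.symm (pderiv K t (e x))
        map_add' := fun x y => by rw [map_add, map_add, map_add]
        map_smul' := fun c x => by
          rw [RingHom.id_apply, Algebra.smul_def, map_mul, he, Derivation.leibniz, MvPowerSeries.pderiv_C, smul_zero,
            add_zero, smul_eq_mul, map_mul, ← he, e.symm_apply_apply, Algebra.smul_def] }
      fun x y => by
        show e.symm (pderiv K t (e (x * y))) = x * e.symm (pderiv K t (e y)) + y * e.symm (pderiv K t (e x))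
        rw [map_mul, Derivation.leibniz, smul_eq_mul, smul_eq_mul, map_add, map_mul, map_mul, e.symm_apply_apply,
          e.symm_apply_apply]
  -- `L` as the fraction field of `A' ⧸ P'`
  let _ : Algebra A' L := ((algebraMap A L).comp e.symm.toRingHom).toAlgebra
  have hL' : ∀ x, algebraMap A' L x = algebraMap A L (e.symm x) := fun _ => rfl
  have hker' : ∀ x ∈ P', algebraMap A' L x = 0 := fun x hx => Ideal.algebraMap_residueField_eq_zero.mpr hx
  let ψ : A' ⧸ P' →+* L := Ideal.Quotient.lift P' (algebraMap A' L) hker'
  let _ : Algebra (A' ⧸ P') L := ψ.toAlgebra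
  have : IsScalarTower A' (A' ⧸ P') L := ⟨fun a b c => by
    obtain ⟨b, rfl⟩ := Ideal.Quotient.mk_surjective b
    rw [Algebra.smul_def (a • Ideal.Quotient.mk P' b) c, Algebra.smul_def (Ideal.Quotient.mk P' b) c,
      Algebra.smul_def a (algebraMap (A' ⧸ P') L (Ideal.Quotient.mk P' b) * c), ← mul_assoc]
    congr 1
    exact map_mul (algebraMap A' L) a b⟩
  have hψinj : Function.Injective (algebraMap (A' ⧸ P') L) := (injective_iff_map_eq_zero _).mpr fun x hx => by
    obtain ⟨x, rfl⟩ := Ideal.Quotient.mk_surjective x
    exact Ideal.Quotient.eq_zero_iff_mem.mpr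
      ((Ideal.algebraMap_residueField_eq_zero (I := P)).mp (show algebraMap A L (e.symm x) = 0 from hx))
  have : FaithfulSMul (A' ⧸ P') L := (faithfulSMul_iff_algebraMap_injective _ _).mpr hψinj
  have : IsFractionRing (A' ⧸ P') L := IsFractionRing.of_field _ _ fun z => by
    obtain ⟨a, b, _, rfl⟩ := IsFractionRing.div_surjective (A := A ⧸ P) z
    obtain ⟨a, rfl⟩ := Ideal.Quotient.mk_surjective a
    obtain ⟨b, rfl⟩ := Ideal.Quotient.mk_surjective b
    refine ⟨Ideal.Quotient.mk P' (e a), Ideal.Quotient.mk P' (e b), ?_⟩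
    show _ = algebraMap A L (e.symm (e a)) / algebraMap A L (e.symm (e b))
    rw [e.symm_apply_apply, e.symm_apply_apply, IsScalarTower.algebraMap_apply A (A ⧸ P) L,
      IsScalarTower.algebraMap_apply A (A ⧸ P) L]
    rfl
  -- Noether normalisation
  have : IsAdicComplete (maximalIdeal A') A' := ComplDeriv.isAdicComplete_powerSeries r K
  have : Module.Finite K (ResidueField A') :=
    Module.Finite.of_surjective ((Algebra.linearMap A' (ResidueField A')).restrictScalars K ∘ₗ
      Algebra.linearMap K A') fun y => by
      obtain ⟨y, rfl⟩ := residue_surjective y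
      refine ⟨MvPowerSeries.constantCoeff y, ?_⟩
      show residue A' (MvPowerSeries.C (MvPowerSeries.constantCoeff y)) = residue A' y
      rw [← sub_eq_zero, ← map_sub, residue_eq_zero_iff, mem_maximalIdeal, mem_nonunits_iff,
        MvPowerSeries.isUnit_iff_constantCoeff]
      simp
  obtain ⟨_, hBcomp, hBres⟩ := ComplDeriv.quotient_data K A' P'
  obtain ⟨s, w, hwinj, -, hwfin⟩ := S2460.result (k₀ := K) (A := A' ⧸ P')
  let PS := MvPowerSeries (Fin s) K
  let _ : Algebra PS (A' ⧸ P') := w.toRingHom.toAlgebra
  have : IsScalarTower K PS (A' ⧸ P') := IsScalarTower.of_algebraMap_eq fun c => (w.commutes c).symm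
  have hfinB : Module.Finite PS (A' ⧸ P') := hwfin
  have hinjL : Function.Injective ((algebraMap (A' ⧸ P') L).comp w.toRingHom) := hψinj.comp hwinj
  let _ : Algebra PS L := ((algebraMap (A' ⧸ P') L).comp w.toRingHom).toAlgebra
  have : IsScalarTower PS (A' ⧸ P') L := IsScalarTower.of_algebraMap_eq fun _ => rfl
  have : FaithfulSMul PS L := (faithfulSMul_iff_algebraMap_injective PS L).mpr hinjL
  let F := FractionRing PS
  let _ : Algebra F L := FractionRing.liftAlgebra PS L
  have : IsScalarTower PS F L := FractionRing.isScalarTower_liftAlgebra PS L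
  have : Algebra.IsAlgebraic F L := by
    refine ⟨fun z => ?_⟩
    have hint : ∀ b : A' ⧸ P', IsIntegral F (algebraMap (A' ⧸ P') L b) := fun b =>
      ((Algebra.IsIntegral.isIntegral (R := PS) b).map (IsScalarTower.toAlgHom PS (A' ⧸ P') L)).tower_top
    obtain ⟨a, b, _, rfl⟩ := IsFractionRing.div_surjective (A := A' ⧸ P') z
    rw [div_eq_mul_inv]
    exact ((hint a).mul (hint b).inv).isAlgebraic
  have : CharZero PS := charZero_of_injective_ringHom (MvPowerSeries.C_injective (σ := Fin s) (R := K))
  have : CharZero F := charZero_of_injective_ringHom (IsFractionRing.injective PS F)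
  have hjac := ComplDeriv.le_finrank_span_jac (L := L) P' s (L' := F)
  -- dimensions
  have hdimB : ringKrullDim (A ⧸ P) = (s : WithBot ℕ∞) := by
    rw [ringKrullDim_eq_of_ringEquiv (Ideal.quotientEquiv P P' e (by
        ext x
        rw [show Ideal.map (↑e : A →+* A') P = Ideal.map e.toRingHom P from rfl,
          show e.toRingHom = (e : A →+* A') from rfl, Ideal.map_comap_of_equiv]
        rfl)),
      DimTrdeg.ringKrullDim_eq_of_isIntegral PS (A' ⧸ P') hwinj, ComplDeriv.ringKrullDim_powerSeries]
  have : IsDomain A' := ComplDeriv.isDomain_powerSeries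
  have : IsDomain A := e.toMulEquiv.isDomain A'
  have hle := ComplDeriv.dim_add_dim_le P (⊥ : Ideal A) (hqP := bot_le) Ideal.map_bot
  rw [ringKrullDim_eq_of_ringEquiv (RingEquiv.quotientBot A), ringKrullDim_eq_of_ringEquiv e, hdimB,
    ComplDeriv.ringKrullDim_powerSeries, ← (isRegularLocalRing_iff R).mp inferInstance] at hle
  norm_cast at hle
  -- the differential of the cotangent space
  choose E hE using fun t => exists_extend_residue P ((pdA t).restrictScalars ℤ)
  have hmzero : ∀ z ∈ maximalIdeal R, algebraMap R L z = 0 := fun z hz => (residue_eq_zero_iff z).mpr hz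
  let θ₀ : maximalIdeal R →ₗ[R] (Fin r → L) :=
    { toFun := fun z t => E t z
      map_add' := fun x y => funext fun t => map_add (E t) _ _
      map_smul' := fun c x => funext fun t => by
        show E t (c * (x : R)) = c • E t x
        rw [Derivation.leibniz, Algebra.smul_def (x : R) (E t c), hmzero _ x.2, zero_mul, add_zero] }
  have hθ₀ : maximalIdeal R • (⊤ : Submodule R (maximalIdeal R)) ≤ LinearMap.ker θ₀ := by
    refine Submodule.smul_le.mpr fun c hc x _ => ?_
    rw [LinearMap.mem_ker, map_smul]
    funext t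
    rw [Pi.smul_apply, Algebra.smul_def, hmzero c hc, zero_mul, Pi.zero_apply]
  let θ₁ : CotangentSpace R →ₗ[R] (Fin r → L) := Submodule.liftQ _ θ₀ hθ₀
  let θ : CotangentSpace R →ₗ[ResidueField R] (Fin r → ResidueField R) :=
    { toFun := θ₁
      map_add' := map_add θ₁
      map_smul' := fun c x => by
        obtain ⟨c, rfl⟩ := residue_surjective c
        rw [RingHom.id_apply, ← ResidueField.algebraMap_eq, algebraMap_smul, map_smul]
        exact (algebraMap_smul (ResidueField R) c (θ₁ x : Fin r → ResidueField R)).symm }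
  have hjacθ : Submodule.span L ((ComplDeriv.jac : _ → Fin r → L) '' (P' : Set A')) ≤ LinearMap.range θ := by
    refine Submodule.span_le.mpr ?_
    rintro _ ⟨x, hx, rfl⟩
    have hxm : algebraMap A R (e.symm x) ∈ maximalIdeal R := by
      rw [← IsLocalization.AtPrime.map_eq_maximalIdeal P R]; exact Ideal.mem_map_of_mem _ hx
    refine ⟨(maximalIdeal R).toCotangent ⟨_, hxm⟩, ?_⟩
    funext t
    show E t (algebraMap A R (e.symm x)) = algebraMap A L (e.symm (pderiv K t x))
    rw [hE]
    show algebraMap A L (e.symm (pderiv K t (e (e.symm x)))) = _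
    rw [e.apply_symm_apply]
  have hθinj : Function.Injective θ := by
    rw [← LinearMap.ker_eq_bot, ← Submodule.finrank_eq_zero]
    have r1 := θ.finrank_range_add_finrank_ker
    have r2 := Submodule.finrank_mono hjacθ
    rw [← IsLocalRing.spanFinrank_maximalIdeal_eq_finrank_cotangentSpace] at r1
    change Module.finrank (ResidueField R) (LinearMap.ker θ) = 0
    change _ ≤ Module.finrank (ResidueField R) (LinearMap.range θ) at r2
    change Module.finrank L _ ≤ _ at r2
    omega
  -- the minor
  have hreg := isRegularLocalRing_of_formallySmooth_quotient P q hqp h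
  obtain ⟨m, f, hf, hgen, hindep⟩ := exists_generators P q hqp hreg
  have hfm : ∀ j, algebraMap A R (f j) ∈ maximalIdeal R := fun j => by
    rw [← IsLocalization.AtPrime.map_eq_maximalIdeal P R]; exact Ideal.mem_map_of_mem _ (hqp (hf j))
  have hw : LinearIndependent L fun j => (fun t => algebraMap A L (pdA t (f j))) := by
    rw [Fintype.linearIndependent_iff]
    intro a ha i
    choose a' ha' using fun j => residue_surjective (R := R) (a j)
    have h0 : θ ((maximalIdeal R).toCotangent (∑ j, a' j • (⟨_, hfm j⟩ : maximalIdeal R))) = 0 := by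
      show θ₀ (∑ j, a' j • (⟨_, hfm j⟩ : maximalIdeal R)) = 0
      rw [map_sum, ← ha]
      refine Finset.sum_congr rfl fun j _ => ?_
      rw [map_smul, ← ha' j]
      funext t
      rw [Pi.smul_apply, Pi.smul_apply, smul_eq_mul, Algebra.smul_def]
      show algebraMap R L (a' j) * E t (algebraMap A R (f j)) = residue R (a' j) * _
      rw [hE]
      rfl
    have h1 := hθinj (h0.trans (map_zero θ).symm)
    rw [Ideal.toCotangent_eq_zero] at h1
    rw [← ha' i]
    refine (residue_eq_zero_iff _).mpr (hindep a' ?_ i)
    convert h1 using 1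
    simp only [Submodule.coe_sum, Submodule.coe_smul, smul_eq_mul]
    rfl
  obtain ⟨σ, hσ⟩ := (Fintype.linearCombination L fun j => (fun t => algebraMap A L (pdA t (f j)))).exists_leftInverse_of_injective
    (LinearMap.ker_eq_bot.mpr hw.fintypeLinearCombination_injective)
  obtain ⟨⟨u₀, hu₀⟩, hint⟩ := IsLocalization.exist_integer_multiples (nonZeroDivisors (A ⧸ P))
    (Finset.univ : Finset (Fin m × Fin r)) (fun il => σ (Pi.single il.2 1) il.1)
  choose a ha using fun il => hint il (Finset.mem_univ il)
  choose a' ha' using fun il => Ideal.Quotient.mk_surjective (I := P) (a il)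
  let Dm : Fin m → Derivation k A A := fun i =>
    ((∑ t, a' (i, t) • (pdA t).liftKaehlerDifferential : Ω[A⁄k] →ₗ[A] A)).compDer (KaehlerDifferential.D k A)
  refine ⟨m, Dm, f, hf, hgen, fun hdet => ?_⟩
  have hM : (algebraMap A L).mapMatrix (Matrix.of fun i j => Dm i (f j)) =
      algebraMap (A ⧸ P) L u₀ • (1 : Matrix (Fin m) (Fin m) L) := by
    ext i j
    have h1 : σ (fun t => algebraMap A L (pdA t (f j))) = Pi.single j 1 := by
      have h3 := LinearMap.congr_fun hσ (Pi.single j (1 : L))
      rwa [LinearMap.comp_apply, Fintype.linearCombination_apply_single, one_smul, LinearMap.id_apply] at h3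
    have h0 : Dm i (f j) = ∑ t, a' (i, t) * pdA t (f j) := by
      show ((∑ t, a' (i, t) • (pdA t).liftKaehlerDifferential : Ω[A⁄k] →ₗ[A] A))
        (KaehlerDifferential.D k A (f j)) = _
      rw [LinearMap.sum_apply]
      refine Finset.sum_congr rfl fun t _ => ?_
      rw [LinearMap.smul_apply, Derivation.liftKaehlerDifferential_comp_D, smul_eq_mul]
    rw [RingHom.mapMatrix_apply, Matrix.map_apply, Matrix.of_apply, h0, map_sum, Matrix.smul_apply, Matrix.one_apply,
      smul_eq_mul, ← Pi.single_apply, ← h1, pi_eq_sum_univ' (fun t => algebraMap A L (pdA t (f j))), map_sum,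
      Finset.sum_apply, Finset.mul_sum]
    refine Finset.sum_congr rfl fun t _ => ?_
    rw [map_smul, Pi.smul_apply, smul_eq_mul, map_mul, IsScalarTower.algebraMap_apply A (A ⧸ P) L (a' (i, t)),
      Ideal.Quotient.algebraMap_eq, ha', ha, Algebra.smul_def]
    ring
  have h0 : algebraMap A L (Matrix.det (Matrix.of fun i j => Dm i (f j))) = 0 :=
    Ideal.algebraMap_residueField_eq_zero.mpr hdet
  rw [RingHom.map_det, hM, Matrix.det_smul, Matrix.det_one, mul_one] at h0
  exact IsFractionRing.to_map_ne_zero_of_mem_nonZeroDivisors hu₀ (eq_zero_of_pow_eq_zero h0)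

/-- Nagata's Jacobian criterion. -/
theorem formallySmooth_iff (p : ℕ) [ExpChar k p] (hk : p = 1 ∨ Module.Finite (frobenius k p).fieldRange k)
    {K₀ : Type u} [Field K₀] [Algebra k K₀] [Algebra.IsGeometricallyReduced k K₀]
    [IsAdicComplete (maximalIdeal A) A] [Algebra K₀ A] [IsScalarTower k K₀ A]
    (hA : CAlgX.IsAdicFormallySmooth K₀ A (maximalIdeal A))
    (q P : Ideal A) [P.IsPrime] (hq : q ≤ P) [(P.map (Ideal.Quotient.mk q)).IsPrime] :
    CAlgX.IsAdicFormallySmooth k (Localization.AtPrime (P.map (Ideal.Quotient.mk q)))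
        (maximalIdeal (Localization.AtPrime (P.map (Ideal.Quotient.mk q)))) ↔
      ∃ (m : ℕ) (D : Fin m → Derivation k A A) (f : Fin m → A), (∀ i, f i ∈ q) ∧
        q.map (algebraMap A (Localization.AtPrime P)) =
          Ideal.span (Set.range fun i => algebraMap A (Localization.AtPrime P) (f i)) ∧
        Matrix.det (Matrix.of fun i j => D i (f j)) ∉ P := by
  obtain ⟨hRreg, hkR⟩ := localization_data (k := k) hA P
  refine ⟨fun h => ?_, fun ⟨m, D, f, hf, hgen, hdet⟩ =>
    formallySmooth_quotient_of_det P q hq hkR D f hf hgen hdet⟩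
  have : IsRegularLocalRing A := (S2471.result.mp hA).1
  cases ‹ExpChar k p› with
  | zero => exact exists_det_charZero P q hq h
  | prime hp =>
    have : Fact p.Prime := ⟨hp⟩
    obtain ⟨r, ⟨e⟩⟩ := S9444.result A K₀
    exact exists_det_charP p (hk.resolve_left hp.ne_one) e P q hq h

end Groth.Agent.NagataJac
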