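import Groth.Agent.NagataJac.DerSep
import Groth.Agent.NagataJac.Approx
import Groth.Agent.S2460
import Groth.Agent.S5784
import Groth.Agent.ComplDeriv.GeomRegRank
import Groth.Agent.ComplDeriv.PowerSeries
import Groth.Agent.DimTrdeg.Basic
import Mathlib.RingTheory.RegularLocalRing.Defs

/-!
# Derivations of `K[[T]]` separate `κ(𝔭) ⊗ Ω_{K[[T]]}` at every prime `𝔭`
-/

universe u

open IsLocalRing TensorProduct KaehlerDifferential
open MvPowerSeries (coeff C X)
open scoped Classical

-- use the canonical `ℤ`-algebra structure on power series rings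
attribute [local instance 10000] Ring.toIntAlgebra
set_option linter.unusedSectionVars false

namespace Groth.Agent.NagataJac

/-- The kernel of `L ⊗ Ω_A → Ω_L` is spanned by the differentials of `ker (A → L)`. -/
theorem ker_mapBaseChange_le_span {A : Type u} [CommRing A] (P : Ideal A) [P.IsPrime] :
    LinearMap.ker (mapBaseChange ℤ A P.ResidueField) ≤
      Submodule.span P.ResidueField ((fun g => (1 : P.ResidueField) ⊗ₜ[A] D ℤ A g) '' (P : Set A)) := by
  let B := A ⧸ P
  let L := P.ResidueField
  intro v hv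
  let c := AlgebraTensorModule.cancelBaseChange A B L L Ω[A⁄ℤ]
  have := Algebra.FormallyEtale.of_isLocalization (Rₘ := L) (nonZeroDivisors B)
  let e := KaehlerDifferential.tensorKaehlerEquivOfFormallyEtale ℤ B L
  have hcomp' : e.toLinearMap ∘ₗ (mapBaseChange ℤ A B).baseChange L = (mapBaseChange ℤ A L) ∘ₗ c.toLinearMap := by
    refine TensorProduct.AlgebraTensorModule.curry_injective (LinearMap.ext_ring ?_)
    refine TensorProduct.AlgebraTensorModule.curry_injective (LinearMap.ext_ring
      (LinearMap.ext_on (KaehlerDifferential.span_range_derivation ℤ A) ?_))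
    rintro _ ⟨a, rfl⟩
    simp [e, c, ← IsScalarTower.algebraMap_apply]
  have hcomp : ∀ w, e ((mapBaseChange ℤ A B).baseChange L w) = mapBaseChange ℤ A L (c w) :=
    fun w => LinearMap.congr_fun hcomp' w
  obtain ⟨w, rfl⟩ := c.surjective v
  rw [LinearMap.mem_ker, ← hcomp, e.map_eq_zero_iff] at hv
  let N : Submodule B (B ⊗[A] Ω[A⁄ℤ]) := LinearMap.ker (mapBaseChange ℤ A B)
  have hex : Function.Exact N.subtype (mapBaseChange ℤ A B) := fun x => by
    constructor
    · intro hx
      exact ⟨⟨x, hx⟩, rfl⟩
    · rintro ⟨y, rfl⟩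
      exact y.2
  obtain ⟨u, hu⟩ := (lTensor_exact (R := B) (M := ↥N) L (f := N.subtype) (g := mapBaseChange ℤ A B) hex
    (KaehlerDifferential.mapBaseChange_surjective ℤ A B Ideal.Quotient.mk_surjective) w).mp hv
  rw [← hu]
  clear hu hv
  induction u with
  | zero => rw [map_zero, map_zero]; exact Submodule.zero_mem _
  | add a b ha hb => rw [map_add, map_add]; exact Submodule.add_mem _ ha hb
  | tmul l y =>
    obtain ⟨z, hz⟩ := (exact_kerCotangentToTensor_mapBaseChange ℤ A B Ideal.Quotient.mk_surjective y.1).mp y.2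
    obtain ⟨g, rfl⟩ := Ideal.toCotangent_surjective _ z
    rw [LinearMap.lTensor_tmul]
    show c (l ⊗ₜ[B] (y : B ⊗[A] Ω[A⁄ℤ])) ∈ _
    rw [← hz, kerCotangentToTensor_toCotangent, AlgebraTensorModule.cancelBaseChange_tmul, one_smul,
      show l ⊗ₜ[A] D ℤ A (g : A) = l • ((1 : L) ⊗ₜ[A] D ℤ A (g : A)) by rw [smul_tmul', smul_eq_mul, mul_one]]
    refine Submodule.smul_mem _ _ (Submodule.subset_span ⟨g, ?_, rfl⟩)
    have h3 : algebraMap A B (g : A) = 0 := g.2
    exact Ideal.Quotient.eq_zero_iff_mem.mp h3

theorem finite_ker_mapBaseChange {A : Type u} [CommRing A] (P : Ideal A) [P.IsPrime]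
    [IsRegularLocalRing (Localization.AtPrime P)] (h : ℕ) (hh : ringKrullDim (Localization.AtPrime P) = h) :
    Module.Finite P.ResidueField (LinearMap.ker (mapBaseChange ℤ A P.ResidueField)) ∧
      Module.finrank P.ResidueField (LinearMap.ker (mapBaseChange ℤ A P.ResidueField)) ≤ h := by
  let R := Localization.AtPrime P
  have hgen : (Submodule.spanFinrank (maximalIdeal R) : WithBot ℕ∞) = h :=
    ((isRegularLocalRing_iff R).mp inferInstance).trans hh
  have hgen' : Submodule.spanFinrank (maximalIdeal R) = h := by exact_mod_cast hgen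
  have hfg : (maximalIdeal R).FG := IsNoetherian.noetherian _
  obtain ⟨s, hs, hspan⟩ := Submodule.FG.exists_span_set_encard_eq_spanFinrank hfg
  have hsfin : s.Finite := Set.finite_of_encard_eq_coe hs
  have : Fintype s := hsfin.fintype
  have hcard : Fintype.card s = h := by
    rw [← hgen']
    have h2 := hsfin.encard_eq_coe_toFinset_card.symm.trans hs
    rw [← hsfin.card_toFinset]
    exact_mod_cast h2
  choose a d had using fun x : s => IsLocalization.exists_mk'_eq P.primeCompl (x : R)
  have hdne : ∀ x : P.primeCompl, algebraMap A P.ResidueField x ≠ 0 := fun x hx =>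
    x.2 (Ideal.algebraMap_residueField_eq_zero.mp hx)
  have haP : ∀ x, a x ∈ P := fun x => by
    have hx : (x : R) ∈ maximalIdeal R := hspan.le (Submodule.subset_span x.2)
    rw [← had x] at hx
    exact (IsLocalization.AtPrime.mk'_mem_maximal_iff R P (a x) (d x)).mp hx
  have hle : LinearMap.ker (mapBaseChange ℤ A P.ResidueField) ≤
      Submodule.span P.ResidueField (Set.range fun x => (1 : P.ResidueField) ⊗ₜ[A] D ℤ A (a x)) := by
    refine (ker_mapBaseChange_le_span P).trans (Submodule.span_le.mpr ?_)
    rintro _ ⟨g, hg, rfl⟩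
    have hgR : algebraMap A R g ∈ (Ideal.span (Set.range a)).map (algebraMap A R) := by
      have h1 : algebraMap A R g ∈ maximalIdeal R := by
        rw [← Localization.AtPrime.map_eq_maximalIdeal]; exact Ideal.mem_map_of_mem _ hg
      rw [← hspan] at h1
      refine (Submodule.span_le.mpr fun x hx => ?_) h1
      show ((⟨x, hx⟩ : s) : R) ∈ _
      rw [← had ⟨x, hx⟩, IsLocalization.mk'_eq_mul_mk'_one]
      exact Ideal.mul_mem_right _ _ (Ideal.mem_map_of_mem _ (Ideal.subset_span ⟨⟨x, hx⟩, rfl⟩))
    obtain ⟨⟨⟨w, hw⟩, u⟩, hu⟩ := (IsLocalization.mem_map_algebraMap_iff P.primeCompl R).mp hgR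
    rw [← map_mul] at hu
    obtain ⟨u', hu'⟩ := (IsLocalization.eq_iff_exists P.primeCompl R).mp hu
    obtain ⟨co, rfl⟩ := (Ideal.mem_span_range_iff_exists_fun).mp hw
    let δ : Derivation ℤ A (P.ResidueField ⊗[A] Ω[A⁄ℤ]) :=
      (TensorProduct.mk A P.ResidueField Ω[A⁄ℤ] 1).compDer (D ℤ A)
    have hzero : ∀ (x : A) (ω : P.ResidueField ⊗[A] Ω[A⁄ℤ]), x ∈ P → x • ω = 0 := fun x ω hx => by
      rw [← algebraMap_smul P.ResidueField, Ideal.algebraMap_residueField_eq_zero.mpr hx, zero_smul]
    have h0 := congrArg δ hu'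
    rw [Derivation.leibniz, Derivation.leibniz δ (u' : A) (∑ x, co x * a x), Derivation.leibniz δ g,
      hzero _ _ (P.mul_mem_right _ hg), add_zero,
      hzero _ _ (P.sum_mem fun x _ => P.mul_mem_left (co x) (haP x)), add_zero, hzero _ (δ (u : A)) hg, zero_add,
      map_sum, Finset.smul_sum, smul_smul] at h0
    have h1 : (u' * u : A) • δ g ∈
        Submodule.span P.ResidueField (Set.range fun x => (1 : P.ResidueField) ⊗ₜ[A] D ℤ A (a x)) := by
      rw [h0]
      refine Submodule.sum_mem _ fun x _ => ?_
      rw [Derivation.leibniz, hzero _ _ (haP x), add_zero, ← algebraMap_smul P.ResidueField (u' : A),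
        ← algebraMap_smul P.ResidueField (co x)]
      exact Submodule.smul_mem _ _ (Submodule.smul_mem _ _ (Submodule.subset_span ⟨x, rfl⟩))
    rw [← algebraMap_smul P.ResidueField] at h1
    exact (Submodule.smul_mem_iff _ (hdne (u' * u))).mp h1
  have hfin : Module.Finite P.ResidueField
      (Submodule.span P.ResidueField (Set.range fun x => (1 : P.ResidueField) ⊗ₜ[A] D ℤ A (a x))) :=
    Module.Finite.span_of_finite _ (Set.finite_range _)
  have : IsNoetherian P.ResidueField (Submodule.span P.ResidueField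
      (Set.range fun x => (1 : P.ResidueField) ⊗ₜ[A] D ℤ A (a x))) :=
    isNoetherian_span_of_finite _ (Set.finite_range _)
  refine ⟨Module.Finite.of_injective (Submodule.inclusion hle) (Submodule.inclusion_injective _), ?_⟩
  refine ((Submodule.finrank_mono hle).trans (finrank_range_le_card _)).trans hcard.le

variable {K : Type u} [Field K] {p : ℕ} [Fact p.Prime] [CharP K p] (db : DualBasis p K) {r : ℕ}

theorem iInf_ker_phi_residueField (P : Ideal (MvPowerSeries (Fin r) K)) [P.IsPrime] :
    ⨅ S, LinearMap.ker (phi (σ := Fin r) db P.ResidueField S) = ⊥ := by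
  let A := MvPowerSeries (Fin r) K
  let B := A ⧸ P
  let L := P.ResidueField
  have : IsAdicComplete (maximalIdeal A) A := ComplDeriv.isAdicComplete_powerSeries r K
  have : Module.Finite K (ResidueField A) :=
    Module.Finite.of_surjective ((Algebra.linearMap A (ResidueField A)).restrictScalars K ∘ₗ
      Algebra.linearMap K A) fun y => by
      obtain ⟨y, rfl⟩ := residue_surjective y
      refine ⟨MvPowerSeries.constantCoeff y, ?_⟩
      show residue A (C (MvPowerSeries.constantCoeff y)) = residue A y
      rw [← sub_eq_zero, ← map_sub, residue_eq_zero_iff, mem_maximalIdeal, mem_nonunits_iff,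
        MvPowerSeries.isUnit_iff_constantCoeff]
      simp
  obtain ⟨_, hBcomp, hBres⟩ := ComplDeriv.quotient_data K A P
  obtain ⟨s, w, hwinj, hwloc, hwfin⟩ := S2460.result (k₀ := K) (A := B)
  let PS := MvPowerSeries (Fin s) K
  let _ : Algebra PS B := w.toRingHom.toAlgebra
  have hPB : Module.Finite PS B := hwfin
  have hinjL : Function.Injective ((algebraMap B L).comp w.toRingHom) := (IsFractionRing.injective B L).comp hwinj
  let _ : Algebra PS L := ((algebraMap B L).comp w.toRingHom).toAlgebra
  have : IsScalarTower PS B L := IsScalarTower.of_algebraMap_eq fun _ => rfl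
  have : FaithfulSMul PS L := (faithfulSMul_iff_algebraMap_injective PS L).mpr hinjL
  let F := FractionRing PS
  let _ : Algebra F L := FractionRing.liftAlgebra PS L
  have : IsScalarTower PS F L := FractionRing.isScalarTower_liftAlgebra PS L
  have : Module.Finite F L := by
    obtain ⟨G, hG⟩ := hPB.fg_top
    have hint : ∀ b : B, IsIntegral F (algebraMap B L b) := fun b =>
      ((Algebra.IsIntegral.isIntegral (R := PS) b).map (IsScalarTower.toAlgHom PS B L)).tower_top
    let T := Algebra.adjoin F (algebraMap B L '' (G : Set B))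
    have hBT : ∀ b : B, algebraMap B L b ∈ T := fun b => by
      have hb : b ∈ Submodule.span PS (G : Set B) := by rw [hG]; trivial
      induction hb using Submodule.span_induction with
      | mem b hb => exact Algebra.subset_adjoin ⟨b, hb, rfl⟩
      | zero => rw [map_zero]; exact T.zero_mem
      | add u v _ _ hu hv => rw [map_add]; exact T.add_mem hu hv
      | smul c u _ hu =>
        rw [Algebra.smul_def, map_mul, ← IsScalarTower.algebraMap_apply, IsScalarTower.algebraMap_apply PS F L]
        exact T.mul_mem (T.algebraMap_mem _) hu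
    have hT : Module.Finite F T := Module.Finite.iff_fg.mpr
      (fg_adjoin_of_finite (G.finite_toSet.image _) (by rintro _ ⟨b, -, rfl⟩; exact hint b))
    refine Module.Finite.of_surjective T.val.toLinearMap fun y => ?_
    obtain ⟨a, b, _, rfl⟩ := IsFractionRing.div_surjective (A := B) y
    refine ⟨⟨algebraMap B L a * (algebraMap B L b)⁻¹, ?_⟩, (div_eq_mul_inv _ _).symm⟩
    exact T.mul_mem (hBT a) (Subalgebra.inv_mem_of_algebraic T (x := ⟨_, hBT b⟩) (hint b).isAlgebraic)
  have hpB : CharP B p := charP_of_injective_ringHom (f := algebraMap K B) (RingHom.injective _) p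
  have hpL : CharP L p := charP_of_injective_ringHom (f := algebraMap B L) (IsFractionRing.injective B L) p
  -- the two families of subspaces of `Ω_L` agree
  have hC : ∀ c, Ideal.Quotient.mk P (C c) = w (C c) := fun c => by
    rw [show (C c : PS) = algebraMap K PS c from rfl, AlgHom.commutes]
    rfl
  have hXB : ∀ i, w (X i) ∈ maximalIdeal B := fun i =>
    haveI := hwloc
    map_nonunit w.toRingHom _ ((mem_maximalIdeal _).mp
      ((ComplDeriv.span_X_eq_maximalIdeal s K).le (Ideal.subset_span ⟨i, rfl⟩)))
  have hXA : ∀ i, Ideal.Quotient.mk P (X i) ∈ maximalIdeal B := fun i => by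
    have : IsLocalHom (Ideal.Quotient.mk P) := IsLocalHom.of_surjective _ Ideal.Quotient.mk_surjective
    exact map_nonunit (Ideal.Quotient.mk P) _ ((mem_maximalIdeal _).mp
      ((ComplDeriv.span_X_eq_maximalIdeal r K).le (Ideal.subset_span ⟨i, rfl⟩)))
  let Z : Finset db.ι₀ → Submodule L Ω[L⁄ℤ] := fun S =>
    Submodule.span L ((fun q => D ℤ L (algebraMap A L q)) '' (frobSub (σ := Fin r) db S : Set A))
  have hZ : ∀ S, Z S =
      Submodule.span L ((fun q => D ℤ L (algebraMap PS L q)) '' (frobSub (σ := Fin s) db S : Set PS)) := fun S =>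
    le_antisymm
      (span_D_image_le (L := L) db w.toRingHom (Ideal.Quotient.mk P) (fun c => (hC c).symm) hXA hwfin S)
      (span_D_image_le (L := L) db (Ideal.Quotient.mk P) w.toRingHom hC hXB
        (RingHom.Finite.of_surjective _ Ideal.Quotient.mk_surjective) S)
  have hinf : ⨅ S, Z S = ⊥ := by
    simp_rw [hZ]
    exact iInf_span_D db F
  obtain ⟨S₀, hS₀⟩ := exists_span_D_finrank_le (σ := Fin s) db F (L := L)
  -- `π` and the images of the kernels
  let π := mapBaseChange ℤ A L
  have hπ : Function.Surjective π := by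
    intro y
    induction (KaehlerDifferential.span_range_derivation ℤ L).ge (Submodule.mem_top (x := y))
      using Submodule.span_induction with
    | mem z hz =>
      obtain ⟨x, rfl⟩ := hz
      obtain ⟨a, b, hb, rfl⟩ := IsFractionRing.div_surjective (A := B) x
      obtain ⟨a, rfl⟩ := Ideal.Quotient.mk_surjective a
      obtain ⟨b, rfl⟩ := Ideal.Quotient.mk_surjective b
      have hb0 : algebraMap A L b ≠ 0 := by
        rw [IsScalarTower.algebraMap_apply A B L]
        exact (map_ne_zero_iff _ (IsFractionRing.injective B L)).mpr (nonZeroDivisors.ne_zero hb)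
      rw [← Ideal.Quotient.algebraMap_eq, ← IsScalarTower.algebraMap_apply A B L,
        ← IsScalarTower.algebraMap_apply A B L, Derivation.leibniz_div]
      refine ⟨((algebraMap A L b)⁻¹ ^ 2) •
        (algebraMap A L b • ((1 : L) ⊗ₜ[A] D ℤ A a) - algebraMap A L a • ((1 : L) ⊗ₜ[A] D ℤ A b)), ?_⟩
      show mapBaseChange ℤ A L _ = _
      rw [map_smul, map_sub, map_smul, map_smul, mapBaseChange_tmul, mapBaseChange_tmul, one_smul, one_smul,
        map_D, map_D, inv_pow]
    | zero => exact ⟨0, map_zero _⟩
    | add u v _ _ hu hv =>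
      obtain ⟨u, rfl⟩ := hu
      obtain ⟨v, rfl⟩ := hv
      exact ⟨u + v, map_add _ _ _⟩
    | smul c u _ hu =>
      obtain ⟨u, rfl⟩ := hu
      exact ⟨c • u, map_smul _ _ _⟩
  have hmap : ∀ S, (LinearMap.ker (phi (σ := Fin r) db L S)).map π = Z S := fun S => by
    rw [ker_phi, Submodule.map_span, dSub, Set.image_image]
    congr 1
    refine Set.image_congr fun q _ => ?_
    show mapBaseChange ℤ A L ((1 : L) ⊗ₜ D ℤ A q) = _
    rw [mapBaseChange_tmul, one_smul, map_D]
  -- dimensions
  have : IsRegularRing A := S5784.result K r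
  have : IsRegularLocalRing (Localization.AtPrime P) := IsRegularRing.isRegularLocalRing_localization P
  have hdimB : ringKrullDim B = (s : WithBot ℕ∞) := by
    rw [DimTrdeg.ringKrullDim_eq_of_isIntegral PS B hwinj, ComplDeriv.ringKrullDim_powerSeries]
  have hle := ComplDeriv.dim_add_dim_le P (⊥ : Ideal A) bot_le (Ideal.map_bot)
  rw [ringKrullDim_eq_of_ringEquiv (RingEquiv.quotientBot A), hdimB, ComplDeriv.ringKrullDim_powerSeries] at hle
  obtain ⟨h, hh⟩ : ∃ h : ℕ, ringKrullDim (Localization.AtPrime P) = h := by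
    exact ⟨_, ((isRegularLocalRing_iff (Localization.AtPrime P)).mp inferInstance).symm⟩
  rw [hh] at hle
  norm_cast at hle
  obtain ⟨hKfin, hKrk⟩ := finite_ker_mapBaseChange P h hh
  refine le_bot_iff.mp fun v hv => ?_
  rw [Submodule.mem_iInf] at hv
  have hπv : π v = 0 := (Submodule.mem_bot L).mp (hinf.le ((Submodule.mem_iInf _).mpr fun S =>
    (hmap S).le (Submodule.mem_map_of_mem (hv S))))
  -- injectivity of `phi` on `ker π`
  obtain ⟨hZfin, hZrk⟩ := hS₀ S₀ subset_rfl
  rw [← hZ] at hZfin hZrk
  have hV : Module.finrank L (S₀ ⊕ Fin r → L) = S₀.card + r := by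
    rw [Module.finrank_pi, Fintype.card_sum, Fintype.card_coe, Fintype.card_fin]
  rw [Fintype.card_fin] at hZrk
  have h0 := inf_ker_eq_bot_of_finrank π hπ (phi (σ := Fin r) db L S₀) (phi_surjective db L S₀) (Z S₀) (hmap S₀)
    (by
      have hk : Module.finrank L (LinearMap.ker π) ≤ h := hKrk
      omega)
  exact h0.le ⟨hπv, hv S₀⟩

end Groth.Agent.NagataJac
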