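import Groth.Agent.NagataJac.General

/-!
# Openness of the smooth locus of a complete local algebra
-/

universe u

open IsLocalRing

namespace Groth.Agent.NagataJac

variable {k A : Type u} [Field k] [CommRing A] [IsLocalRing A] [IsNoetherianRing A] [Algebra k A]

theorem isOpen_setOf_formallySmooth (p : ℕ) [ExpChar k p] (hk : p = 1 ∨ Module.Finite (frobenius k p).fieldRange k)
    {K₀ : Type u} [Field K₀] [Algebra k K₀] [Algebra.IsGeometricallyReduced k K₀]
    [IsAdicComplete (maximalIdeal A) A] [Algebra K₀ A] [IsScalarTower k K₀ A]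
    (hA : CAlgX.IsAdicFormallySmooth K₀ A (maximalIdeal A)) (q : Ideal A) :
    IsOpen {n : PrimeSpectrum (A ⧸ q) |
      CAlgX.IsAdicFormallySmooth k (Localization.AtPrime n.asIdeal) (maximalIdeal (Localization.AtPrime n.asIdeal))} := by
  classical
  have key : ∀ n : PrimeSpectrum (A ⧸ q),
      CAlgX.IsAdicFormallySmooth k (Localization.AtPrime n.asIdeal) (maximalIdeal (Localization.AtPrime n.asIdeal)) ↔
      ∃ (m : ℕ) (D : Fin m → Derivation k A A) (f : Fin m → A), (∀ i, f i ∈ q) ∧
        q.map (algebraMap A (Localization.AtPrime (n.asIdeal.comap (Ideal.Quotient.mk q)))) =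
          Ideal.span (Set.range fun i =>
            algebraMap A (Localization.AtPrime (n.asIdeal.comap (Ideal.Quotient.mk q))) (f i)) ∧
        Matrix.det (Matrix.of fun i j => D i (f j)) ∉ n.asIdeal.comap (Ideal.Quotient.mk q) := by
    intro n
    have hP : (n.asIdeal.comap (Ideal.Quotient.mk q)).map (Ideal.Quotient.mk q) = n.asIdeal :=
      Ideal.map_comap_of_surjective _ Ideal.Quotient.mk_surjective _
    have hq : q ≤ n.asIdeal.comap (Ideal.Quotient.mk q) := fun x hx => by
      rw [Ideal.mem_comap, Ideal.Quotient.eq_zero_iff_mem.mpr hx]; exact zero_mem _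
    have : ((n.asIdeal.comap (Ideal.Quotient.mk q)).map (Ideal.Quotient.mk q)).IsPrime := by rw [hP]; exact n.2
    have h := formallySmooth_iff (k := k) (A := A) p hk hA q _ hq
    have hcongr : ∀ (I J : Ideal (A ⧸ q)) [I.IsPrime] [J.IsPrime], I = J →
        (CAlgX.IsAdicFormallySmooth k (Localization.AtPrime I) (maximalIdeal (Localization.AtPrime I)) ↔
          CAlgX.IsAdicFormallySmooth k (Localization.AtPrime J) (maximalIdeal (Localization.AtPrime J))) := by
      intro I J _ _ hIJ; subst hIJ; exact Iff.rfl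
    exact (hcongr _ _ hP.symm).trans h
  refine isOpen_iff_forall_mem_open.mpr fun n hn => ?_
  obtain ⟨m, D, f, hf, hgen, hdet⟩ := (key n).mp hn
  set P := n.asIdeal.comap (Ideal.Quotient.mk q) with hPdef
  obtain ⟨gs, hgs⟩ := (IsNoetherian.noetherian q : q.FG)
  have hloc : ∀ x ∈ gs, ∃ w ∉ P, w * x ∈ Ideal.span (Set.range f) := by
    intro x hx
    have hx' : algebraMap A (Localization.AtPrime P) x ∈ (Ideal.span (Set.range f)).map (algebraMap A _) := by
      rw [Ideal.map_span, ← Set.range_comp]
      exact hgen.le (Ideal.mem_map_of_mem _ (hgs ▸ Ideal.subset_span hx))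
    obtain ⟨w, hw, hwx⟩ := (IsLocalization.algebraMap_mem_map_algebraMap_iff P.primeCompl _ _ _).mp hx'
    exact ⟨w, hw, hwx⟩
  choose w hw hwx using hloc
  let G := (∏ x : gs, w x.1 x.2) * Matrix.det (Matrix.of fun i j => D i (f j))
  refine ⟨(PrimeSpectrum.basicOpen (Ideal.Quotient.mk q G) : Set (PrimeSpectrum (A ⧸ q))), fun n' hn' => ?_,
    (PrimeSpectrum.basicOpen _).isOpen, ?_⟩
  · rw [SetLike.mem_coe, PrimeSpectrum.mem_basicOpen] at hn'
    refine (key n').mpr ⟨m, D, f, hf, ?_, fun hdet' => hn' ?_⟩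
    · set P' := n'.asIdeal.comap (Ideal.Quotient.mk q)
      refine le_antisymm (Ideal.map_le_iff_le_comap.mpr ?_) ?_
      · refine hgs.ge.trans (Ideal.span_le.mpr fun x hx => ?_)
        rw [SetLike.mem_coe, Ideal.mem_comap]
        have hunit : IsUnit (algebraMap A (Localization.AtPrime P') (w x hx)) :=
          IsLocalization.map_units _ (⟨w x hx, fun h => hn' (by
            show G ∈ P'
            exact Ideal.mul_mem_right _ _ (P'.mem_of_dvd (Finset.dvd_prod_of_mem (fun y : gs => w y.1 y.2) (Finset.mem_univ (⟨x, hx⟩ : gs))) h))⟩ : P'.primeCompl)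
        rw [← Ideal.unit_mul_mem_iff_mem _ hunit, ← map_mul]
        have := Ideal.mem_map_of_mem (algebraMap A (Localization.AtPrime P')) (hwx x hx)
        rwa [Ideal.map_span, ← Set.range_comp] at this
      · rw [Ideal.span_le]
        rintro _ ⟨i, rfl⟩
        exact Ideal.mem_map_of_mem _ (hf i)
    · show G ∈ n'.asIdeal.comap (Ideal.Quotient.mk q)
      exact Ideal.mul_mem_left _ _ hdet'
  · rw [SetLike.mem_coe, PrimeSpectrum.mem_basicOpen]
    intro hG
    have hG' : G ∈ P := hG
    rcases (inferInstance : P.IsPrime).mem_or_mem hG' with hG' | hG'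
    · obtain ⟨x, -, hx⟩ := (Ideal.IsPrime.prod_mem_iff (p := P)).mp hG'
      exact hw x.1 x.2 hx
    · exact hdet hG'

end Groth.Agent.NagataJac
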